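import Groth.Agent.CohOps.Sections
import Groth.Agent.KoszTwLib.Tensor
import Groth.Agent.Props.KilledSub

/-!
# Sections of the restriction to a closed subscheme
-/

set_option autoImplicit false
set_option backward.isDefEq.respectTransparency false
set_option backward.isDefEq.respectTransparency.types false

universe u

open CategoryTheory CategoryTheory.Limits AlgebraicGeometry TopologicalSpace Opposite

noncomputable section

namespace Groth.Agent.KoszSh77

variable {X Z : Scheme.{u}}

/-- The unit of a closed immersion is an epimorphism. -/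
theorem epi_unit (i : Z ⟶ X) [IsClosedImmersion i] (M : X.Modules) :
    Epi ((Scheme.Modules.pullbackPushforwardAdjunction i).unit.app M) := by
  let A := Scheme.Modules.pullbackPushforwardAdjunction i
  refine Abelian.epi_of_cokernel_π_eq_zero _ ?_
  let f := cokernel.π (A.unit.app M)
  haveI : Epi f := inferInstance
  haveI : IsIso (A.unit.app (cokernel (A.unit.app M))) :=
    (ClUnit.isIso_unit_iff i _).mpr fun U a ha s => by
      refine KoszTwLib.eq_zero_of_locally _ U.1 _ fun x hx => ?_
      obtain ⟨V, hV, hxV, t, ht⟩ := QCoh.exists_locally_app_eq f U.1 s x hx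
      obtain ⟨_, ⟨(W : X.Opens), hW, rfl⟩, hxW, hWV'⟩ :=
        X.isBasis_affineOpens.exists_subset_of_mem_open hxV V.2
      have hWV : W ≤ V := hWV'
      refine ⟨W, le_trans hWV hV, hxW, ?_⟩
      let W' : X.affineOpens := ⟨W, hW⟩
      have ha' : QCoh.rres (le_trans hWV hV) a ∈ i.ker.ideal W' :=
        i.ker.ideal_le_comap_ideal (U := W') (V := U) (show W'.1 ≤ U.1 from hWV.trans hV) ha
      refine (QCoh.res_smul _ (le_trans hWV hV) a s).trans ?_
      rw [← QCoh.res_res _ hV hWV, ← ht, ← QCoh.app_res, ← Scheme.Modules.Hom.app_smul]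
      exact (congrArg (f.app W) (Props.KilledSub.smul_push_eq_zero i
        ((Scheme.Modules.pullback i).obj M) W' ha' (QCoh.res _ hWV t))).trans (map_zero _)
  rw [← cancel_mono (A.unit.app (cokernel (A.unit.app M))), zero_comp]
  have h0 : (Scheme.Modules.pullback i).map f = 0 := by
    have h1 : (Scheme.Modules.pullback i).map (A.unit.app M) ≫ (Scheme.Modules.pullback i).map f = 0 := by
      rw [← Functor.map_comp, cokernel.condition, Functor.map_zero]
    have h2 : IsIso ((Scheme.Modules.pullback i).map (A.unit.app M)) := by
      have := A.left_triangle_components M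
      rw [← IsIso.eq_comp_inv, Category.id_comp] at this
      rw [this]
      infer_instance
    rwa [← cancel_epi ((Scheme.Modules.pullback i).map (A.unit.app M)), comp_zero]
  refine (A.unit.naturality f).trans ?_
  rw [Functor.comp_map, h0, Functor.map_zero, comp_zero]

/-- Restriction to the subscheme is surjective on sections over affine opens. -/
theorem unit_app_surjective (J : X.IdealSheafData) (G : X.Modules) [G.IsQuasicoherent] (U : X.affineOpens) :
    Function.Surjective (((Scheme.Modules.pullbackPushforwardAdjunction J.subschemeι).unit.app G).app U.1) := by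
  haveI := epi_unit J.subschemeι G
  haveI : ((Scheme.Modules.pushforward J.subschemeι).obj
      ((Scheme.Modules.pullback J.subschemeι).obj G)).IsQuasicoherent :=
    QCoh.isQuasicoherent_pushforward J.subschemeι _
  haveI : ((Scheme.Modules.pullback J.subschemeι ⋙ Scheme.Modules.pushforward J.subschemeι).obj G).IsQuasicoherent :=
    this
  haveI : ((𝟭 X.Modules).obj G).IsQuasicoherent := ‹G.IsQuasicoherent›
  exact QCoh.app_surjective_of_epi _ U.2

/-- The kernel of the restriction to a principally cut out subscheme, on sections. -/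
theorem unit_app_eq_zero_iff (J : X.IdealSheafData) (G : X.Modules) [G.IsQuasicoherent] (U : X.affineOpens)
    {g : Γ(X, U.1)} (hg : J.ideal U = Ideal.span {g}) (m : Γ(G, U.1)) :
    ((Scheme.Modules.pullbackPushforwardAdjunction J.subschemeι).unit.app G).app U.1 m = 0 ↔
      ∃ w : Γ(G, U.1), m = g • w := by
  let η := (Scheme.Modules.pullbackPushforwardAdjunction J.subschemeι).unit.app G
  constructor
  · intro h0
    let S := ShortComplex.mk (Dual3.idealMulι J G) η (kernel.condition _)
    have hS : S.Exact := S.exact_of_f_is_kernel (kernelIsKernel _)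
    haveI : Mono S.f := inferInstanceAs (Mono (kernel.ι η))
    obtain ⟨s, hs⟩ := QCoh.exists_app_eq_of_app_eq_zero S hS U.1 m h0
    have hm : m ∈ J.ideal U • (⊤ : Submodule Γ(X, U.1) Γ(G, U.1)) :=
      CohOps.Sections.range_idealMulι J G U ▸ ⟨s, hs⟩
    rw [hg, Submodule.ideal_span_singleton_smul] at hm
    obtain ⟨w, -, hw⟩ := (Submodule.mem_smul_pointwise_iff_exists _ _ _).mp hm
    exact ⟨w, hw.symm⟩
  · rintro ⟨w, rfl⟩
    rw [Scheme.Modules.Hom.app_smul]
    exact Props.KilledSub.smul_push_eq_zero J.subschemeι _ U (by rw [Scheme.IdealSheafData.ker_subschemeι, hg]; exact Ideal.subset_span rfl) _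

end Groth.Agent.KoszSh77
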