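import Groth.Agent.LFFrame.Basic
import Groth.Agent.QCoh.Basic
import Groth.Agent.Omega.Stalks
import Groth.Agent.AssSch.Stalk
import Mathlib.Topology.Sheaves.SheafCondition.Sites

/-!
# Morphisms of modules given on a basis of opens
-/

set_option autoImplicit false
set_option backward.isDefEq.respectTransparency false
set_option backward.isDefEq.respectTransparency.types false

universe u

open CategoryTheory CategoryTheory.Limits AlgebraicGeometry TopologicalSpace Opposite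
open Groth.Agent.PullStalk.Sky Groth.Agent.PullStalk.Exact

noncomputable section

namespace Groth.Agent.KoszSh77

variable {X : Scheme.{u}} {M N : X.Modules} {B : Set X.Opens}

/-- A compatible family of linear maps on a basis of opens is a morphism. -/
theorem exists_hom_of_basis (hB : Opens.IsBasis B)
    (ℓ : ∀ U : B, Γ(M, (U : X.Opens)) →ₗ[Γ(X, (U : X.Opens))] Γ(N, (U : X.Opens)))
    (nat : ∀ (U V : B) (h : (V : X.Opens) ≤ (U : X.Opens)) (m : Γ(M, (U : X.Opens))),
      QCoh.res N h (ℓ U m) = ℓ V (QCoh.res M h m)) :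
    ∃ φ : M ⟶ N, ∀ (U : B) (m : Γ(M, (U : X.Opens))), φ.app (U : X.Opens) m = ℓ U m := by
  have h : Opens.IsBasis (Set.range ((↑) : B → X.Opens)) := by rwa [Subtype.range_coe]
  let Nf : TopCat.Sheaf Ab.{u} X.carrier := ⟨N.presheaf, N.isSheaf⟩
  let α : (inducedFunctor ((↑) : B → X.Opens)).op ⋙ M.presheaf ⟶
      (inducedFunctor ((↑) : B → X.Opens)).op ⋙ Nf.obj :=
    { app := fun U => AddCommGrpCat.ofHom (ℓ U.unop).toAddMonoidHom
      naturality := fun U V f => by
        ext m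
        exact (nat U.unop V.unop (leOfHom f.unop.hom) m).symm }
  let ψ := TopCat.Sheaf.restrictHomEquivHom M.presheaf Nf h α
  have hψ : ∀ (U : B) (m : Γ(M, (U : X.Opens))), (ψ.app (op (U : X.Opens))).hom m = ℓ U m := fun U m =>
    ConcreteCategory.congr_hom (TopCat.Sheaf.extend_hom_app M.presheaf Nf h α U) m
  refine ⟨⟨PresheafOfModules.homMk ψ fun U r m => ?_⟩, hψ⟩
  obtain ⟨U⟩ := U
  refine QCoh.eq_of_locally_eq N (U := fun i : {V : B // (V : X.Opens) ≤ U} => (i.1 : X.Opens)) (V := U)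
    (fun i => i.2) (fun x hx => ?_) _ _ fun ⟨V, hVU⟩ => ?_
  · obtain ⟨W, hW, hxW, hWU⟩ := Opens.isBasis_iff_nbhd.mp hB hx
    exact Opens.mem_iSup.2 ⟨⟨⟨W, hW⟩, hWU⟩, hxW⟩
  · have key : ∀ x : Γ(M, U), QCoh.res N hVU ((ψ.app (op U)).hom x) = ℓ V (QCoh.res M hVU x) :=
      fun x => (congr($(ψ.naturality (homOfLE hVU).op).hom x)).symm.trans (hψ V _)
    refine (key _).trans ((congrArg _ (QCoh.res_smul M hVU r m)).trans (((ℓ V).map_smul _ _).trans ?_))
    refine Eq.trans ?_ (QCoh.res_smul N hVU r _).symm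
    exact congrArg (fun z : Γ(N, (V : X.Opens)) => QCoh.rres hVU r • z) (key m).symm

/-- Morphisms agreeing on a basis are equal. -/
theorem hom_ext_basis (hB : Opens.IsBasis B) {φ ψ : M ⟶ N}
    (h : ∀ U ∈ B, ∀ m : Γ(M, U), φ.app U m = ψ.app U m) : φ = ψ := by
  ext U m
  refine QCoh.eq_of_locally_eq N (U := fun i : {V : B // (V : X.Opens) ≤ U} => (i.1 : X.Opens)) (V := U)
    (fun i => i.2) (fun x hx => ?_) _ _ fun ⟨V, hVU⟩ => ?_
  · obtain ⟨W, hW, hxW, hWU⟩ := Opens.isBasis_iff_nbhd.mp hB hx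
    exact Opens.mem_iSup.2 ⟨⟨⟨W, hW⟩, hWU⟩, hxW⟩
  · exact ((QCoh.app_res φ hVU m).symm.trans (h _ V.2 _)).trans (QCoh.app_res ψ hVU m)

/-- A morphism bijective on a basis of opens is an isomorphism. -/
theorem isIso_of_basis (hB : Opens.IsBasis B) (φ : M ⟶ N) (h : ∀ U ∈ B, Function.Bijective (φ.app U)) :
    IsIso φ := by
  refine Omega.Stalks.isIso_of_stalk fun x => ⟨?_, fun t => ?_⟩
  · rw [injective_iff_map_eq_zero]
    intro t ht
    obtain ⟨W, hxW, m, rfl⟩ := exists_germM_eq M x t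
    rw [stalkLin_germ] at ht
    obtain ⟨W', hxW', i₁, i₂, h1⟩ := N.presheaf.germ_eq x hxW hxW (φ.app W m) 0
      (ht.trans (map_zero (N.presheaf.germ W x hxW).hom).symm)
    obtain ⟨V, hV, hxV, hVW⟩ := Opens.isBasis_iff_nbhd.mp hB hxW'
    have h2 : φ.app V (QCoh.res M (hVW.trans i₁.le) m) = φ.app V 0 := by
      refine (QCoh.app_res φ (hVW.trans i₁.le) m).trans ?_
      rw [map_zero, ← QCoh.res_res N i₁.le hVW]
      exact (congrArg (QCoh.res N hVW) (h1.trans (map_zero _))).trans (map_zero _)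
    rw [← AssSch.Stalk.germM_res M (hVW.trans i₁.le) x hxV m]
    exact (congrArg (germM M V x hxV) ((h V hV).1 h2)).trans (map_zero (M.presheaf.germ V x hxV).hom)
  · obtain ⟨W, hxW, m, rfl⟩ := exists_germM_eq N x t
    obtain ⟨V, hV, hxV, hVW⟩ := Opens.isBasis_iff_nbhd.mp hB hxW
    obtain ⟨s, hs⟩ := (h V hV).2 (QCoh.res N hVW m)
    refine ⟨germM M V x hxV s, ?_⟩
    rw [stalkLin_germ, hs]
    exact N.presheaf.germ_res_apply (homOfLE hVW) x hxV m

end Groth.Agent.KoszSh77
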