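import Groth.Agent.QCoh.Exact
import Mathlib.Algebra.Homology.ShortComplex.HomologicalComplex
import Mathlib.Algebra.Homology.HomologicalComplex

/-!
# Cycles and homology on sections over affine opens
-/

set_option autoImplicit false
set_option backward.isDefEq.respectTransparency false
set_option backward.isDefEq.respectTransparency.types false
set_option linter.style.haveILetI false

universe u

open CategoryTheory CategoryTheory.Limits AlgebraicGeometry TopologicalSpace Opposite

noncomputable section

namespace Groth.Agent.KoszSh77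

variable {X : Scheme.{u}} {K : ChainComplex X.Modules ℕ} (hK : ∀ p, (K.X p).IsQuasicoherent)

include hK in
theorem isQuasicoherent_cycles (q : ℕ) : (K.cycles q).IsQuasicoherent := by
  haveI := hK
  let e : kernel (K.d q ((ComplexShape.down ℕ).next q)) ≅ K.cycles q := ((K.cyclesIsKernel q _ rfl).conePointUniqueUpToIso
    (kernelIsKernel (K.d q ((ComplexShape.down ℕ).next q)))).symm
  exact QCoh.isQuasicoherent_of_iso e

include hK in
theorem isQuasicoherent_homology (q : ℕ) : (K.homology q).IsQuasicoherent := by
  haveI := hK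
  haveI := isQuasicoherent_cycles hK q
  let e : cokernel (K.toCycles ((ComplexShape.down ℕ).prev q) q) ≅ K.homology q :=
    ((K.homologyIsCokernel ((ComplexShape.down ℕ).prev q) q rfl).coconePointUniqueUpToIso
      (cokernelIsCokernel (K.toCycles ((ComplexShape.down ℕ).prev q) q))).symm
  exact QCoh.isQuasicoherent_of_iso e

theorem iCycles_app_injective (q : ℕ) (U : X.Opens) : Function.Injective ((K.iCycles q).app U) :=
  QCoh.app_injective_of_mono _ U

theorem d_iCycles_app (q j : ℕ) (U : X.Opens) (z : Γ(K.cycles q, U)) :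
    (K.d q j).app U ((K.iCycles q).app U z) = 0 := by
  rw [← ConcreteCategory.comp_apply, ← Scheme.Modules.Hom.comp_app, K.iCycles_d]
  rfl

theorem iCycles_toCycles_app (i q : ℕ) (U : X.Opens) (v : Γ(K.X i, U)) :
    (K.iCycles q).app U ((K.toCycles i q).app U v) = (K.d i q).app U v := by
  rw [← ConcreteCategory.comp_apply, ← Scheme.Modules.Hom.comp_app, K.toCycles_i]

theorem exists_cycle (q j : ℕ) (hj : (ComplexShape.down ℕ).next q = j) (U : X.Opens) (z : Γ(K.X q, U))
    (hz : (K.d q j).app U z = 0) : ∃ c : Γ(K.cycles q, U), (K.iCycles q).app U c = z := by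
  let S := ShortComplex.mk (K.iCycles q) (K.d q j) (K.iCycles_d q j)
  haveI : Mono S.f := inferInstanceAs (Mono (K.iCycles q))
  exact QCoh.exists_app_eq_of_app_eq_zero S (S.exact_of_f_is_kernel (K.cyclesIsKernel q j hj)) U z hz

theorem homologyπ_toCycles_app (i q : ℕ) (U : X.Opens) (v : Γ(K.X i, U)) :
    (K.homologyπ q).app U ((K.toCycles i q).app U v) = 0 := by
  rw [← ConcreteCategory.comp_apply, ← Scheme.Modules.Hom.comp_app, K.toCycles_comp_homologyπ]
  rfl

include hK in
theorem homologyπ_app_surjective (q : ℕ) {U : X.Opens} (hU : IsAffineOpen U) :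
    Function.Surjective ((K.homologyπ q).app U) := by
  haveI := isQuasicoherent_cycles hK q
  haveI := isQuasicoherent_homology hK q
  exact QCoh.app_surjective_of_epi _ hU

include hK in
theorem exists_toCycles_eq (i q : ℕ) (hi : (ComplexShape.down ℕ).prev q = i) {U : X.Opens} (hU : IsAffineOpen U)
    (c : Γ(K.cycles q, U)) (hc : (K.homologyπ q).app U c = 0) : ∃ v, (K.toCycles i q).app U v = c := by
  haveI := hK
  haveI := isQuasicoherent_cycles hK q
  haveI := isQuasicoherent_homology hK q
  let S := ShortComplex.mk (K.toCycles i q) (K.homologyπ q) (K.toCycles_comp_homologyπ i q)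
  haveI : Epi (kernel.lift S.g S.f S.zero) := S.exact_iff_epi_kernel_lift.mp
    (S.exact_of_g_is_cokernel (K.homologyIsCokernel i q hi))
  let T := ShortComplex.mk (kernel.ι S.g) S.g (kernel.condition _)
  haveI : Mono T.f := inferInstanceAs (Mono (kernel.ι S.g))
  obtain ⟨k, hk⟩ := QCoh.exists_app_eq_of_app_eq_zero T (T.exact_of_f_is_kernel (kernelIsKernel _)) U c hc
  haveI : (kernel S.g).IsQuasicoherent := QCoh.isQuasicoherent_kernel _
  obtain ⟨v, hv⟩ := QCoh.app_surjective_of_epi (kernel.lift S.g S.f S.zero) hU k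
  refine ⟨v, ?_⟩
  rw [← hk, ← hv]
  exact congrArg (fun φ : K.X i ⟶ K.cycles q => φ.app U v) (kernel.lift_ι S.g S.f S.zero).symm

end Groth.Agent.KoszSh77
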