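import Groth.Agent.KoszSh77.Descent

/-!
# Isomorphisms given by compatible presentations on a basis
-/

set_option autoImplicit false
set_option backward.isDefEq.respectTransparency false
set_option backward.isDefEq.respectTransparency.types false

universe u v

open CategoryTheory CategoryTheory.Limits AlgebraicGeometry TopologicalSpace Opposite

noncomputable section

namespace Groth.Agent.KoszSh77

variable {X : Scheme.{u}}

/-- Two modules are isomorphic if, on a basis, they are the same quotient of a third one. -/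
theorem nonempty_iso_of_charts {B : Set X.Opens} (hB : Opens.IsBasis B) (L M N : X.Modules)
    (P : B → Type v) [∀ U, Nonempty (P U)]
    (a : ∀ U : B, P U → (Γ(L, (U : X.Opens)) →ₗ[Γ(X, (U : X.Opens))] Γ(M, (U : X.Opens))))
    (b : ∀ U : B, P U → (Γ(L, (U : X.Opens)) →ₗ[Γ(X, (U : X.Opens))] Γ(N, (U : X.Opens))))
    (ha : ∀ U p, Function.Surjective (a U p)) (hb : ∀ U p, Function.Surjective (b U p))
    (hker : ∀ U p l, a U p l = 0 ↔ b U p l = 0)
    (hscale : ∀ (U : B) (p p' : P U), ∃ c : Γ(X, (U : X.Opens)), a U p' = c • a U p ∧ b U p' = c • b U p)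
    (hres : ∀ (U V : B) (h : (V : X.Opens) ≤ (U : X.Opens)) (p : P U), ∃ p' : P V, ∀ l,
      QCoh.res M h (a U p l) = a V p' (QCoh.res L h l) ∧ QCoh.res N h (b U p l) = b V p' (QCoh.res L h l)) :
    Nonempty (M ≅ N) := by
  classical
  choose inv hinv using fun U p => ha U p
  have hwell : ∀ U p l l', a U p l = a U p l' → b U p l = b U p l' := fun U p l l' h => by
    rw [← sub_eq_zero, ← map_sub, ← hker, map_sub, h, sub_self]
  let ℓ : ∀ U : B, Γ(M, (U : X.Opens)) →ₗ[Γ(X, (U : X.Opens))] Γ(N, (U : X.Opens)) := fun U =>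
    { toFun := fun m => b U (Classical.arbitrary _) (inv U (Classical.arbitrary _) m)
      map_add' := fun m m' => by
        rw [← map_add]
        exact hwell U _ _ _ (by rw [map_add, hinv, hinv, hinv])
      map_smul' := fun r m => by
        rw [RingHom.id_apply, ← map_smul]
        exact hwell U _ _ _ (by rw [map_smul, hinv, hinv]) }
  have hℓ : ∀ U p l, ℓ U (a U p l) = b U p l := fun U p l => by
    obtain ⟨c, hca, hcb⟩ := hscale U (Classical.arbitrary _) p
    have h1 : inv U (Classical.arbitrary _) (a U p l) = inv U (Classical.arbitrary _) (a U (Classical.arbitrary _) (c • l)) := by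
      rw [map_smul, hca, LinearMap.smul_apply]
    show b U _ (inv U _ (a U p l)) = b U p l
    rw [h1, hwell U _ _ (c • l) (hinv U _ _), map_smul, hcb, LinearMap.smul_apply]
  obtain ⟨φ, hφ⟩ := exists_hom_of_basis hB ℓ (by
    intro U V h m
    obtain ⟨l, rfl⟩ := ha U (Classical.arbitrary _) m
    obtain ⟨p', hp'⟩ := hres U V h (Classical.arbitrary _)
    rw [hℓ, (hp' l).2, (hp' l).1, hℓ])
  haveI : IsIso φ := isIso_of_basis hB φ fun U hU => by
    have e : ∀ m, φ.app U m = ℓ ⟨U, hU⟩ m := hφ ⟨U, hU⟩
    constructor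
    · rw [injective_iff_map_eq_zero]
      intro m hm
      obtain ⟨l, rfl⟩ := ha ⟨U, hU⟩ (Classical.arbitrary _) m
      rw [e, hℓ] at hm
      exact (hker _ _ _).mpr hm
    · intro y
      obtain ⟨l, rfl⟩ := hb ⟨U, hU⟩ (Classical.arbitrary _) y
      exact ⟨_, (e _).trans (hℓ _ _ l)⟩
  exact ⟨asIso φ⟩

end Groth.Agent.KoszSh77
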