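import Groth.Prelude.Def_KoszulSh
import Mathlib.LinearAlgebra.ExteriorPower.Basis
import Mathlib.LinearAlgebra.CliffordAlgebra.Contraction
import Mathlib.RingTheory.Regular.RegularSequence
import Mathlib.LinearAlgebra.Basis.Submodule

/-!
# The Koszul complex of a weakly regular sequence, as contraction on exterior powers, is exact
-/

set_option autoImplicit false

universe u v

open RingTheory.Sequence

noncomputable section

namespace Groth.Agent.KoszSh77

variable {R : Type u} [CommRing R] {M : Type v} [AddCommGroup M] [Module R M]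

/-- Contraction with a linear form on the exterior algebra. -/
def con (φ : M →ₗ[R] R) : ExteriorAlgebra R M →ₗ[R] ExteriorAlgebra R M :=
  CliffordAlgebra.contractLeft φ

theorem con_ι_mul (φ : M →ₗ[R] R) (v : M) (y : ExteriorAlgebra R M) :
    con φ (ExteriorAlgebra.ι R v * y) = φ v • y - ExteriorAlgebra.ι R v * con φ y :=
  CliffordAlgebra.contractLeft_ι_mul (d := φ) v y

theorem con_one (φ : M →ₗ[R] R) : con φ (1 : ExteriorAlgebra R M) = 0 :=
  CliffordAlgebra.contractLeft_one (d := φ) _

theorem con_con (φ : M →ₗ[R] R) (y : ExteriorAlgebra R M) : con φ (con φ y) = 0 :=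
  CliffordAlgebra.contractLeft_contractLeft φ y

theorem ι_mul_ι_comm (v w : M) :
    ExteriorAlgebra.ι R v * ExteriorAlgebra.ι R w = -(ExteriorAlgebra.ι R w * ExteriorAlgebra.ι R v) :=
  eq_neg_of_add_eq_zero_left (ExteriorAlgebra.ι_add_mul_swap v w)

/-- The contraction of a decomposable element. -/
theorem con_ιMulti (φ : M →ₗ[R] R) : ∀ (p : ℕ) (e : Fin (p + 1) → M),
    con φ (ExteriorAlgebra.ιMulti R (p + 1) e) = (KoszSh.dGen φ p e : ExteriorAlgebra R M) := by
  intro p
  induction p with
  | zero =>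
    intro e
    rw [ExteriorAlgebra.ιMulti_succ_apply, ExteriorAlgebra.ιMulti_zero_apply, con_ι_mul, con_one, mul_zero,
      sub_zero]
    simp only [KoszSh.dGen, Fin.sum_univ_one, Fin.val_zero, pow_zero, one_mul, Submodule.coe_smul]
    simp [exteriorPower.ιMulti_apply_coe, ExteriorAlgebra.ιMulti_zero_apply]
  | succ p ih =>
    intro e
    rw [ExteriorAlgebra.ιMulti_succ_apply, con_ι_mul, ih]
    simp only [KoszSh.dGen, Submodule.coe_sum, Submodule.coe_smul, exteriorPower.ιMulti_apply_coe]
    rw [Fin.sum_univ_succ (n := p + 1)]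
    simp only [Fin.val_zero, pow_zero, one_mul, Fin.zero_succAbove]
    rw [show Matrix.vecTail e = fun j => e j.succ from rfl, Finset.mul_sum, sub_eq_add_neg,
      ← Finset.sum_neg_distrib]
    congr 1
    refine Finset.sum_congr rfl fun i _ => ?_
    rw [Algebra.mul_smul_comm, ← neg_smul, ExteriorAlgebra.ιMulti_succ_apply (fun j => e (i.succ.succAbove j))]
    have h1 : Matrix.vecTail (fun j => e (i.succ.succAbove j)) = fun j => e (i.succAbove j).succ := by
      funext j
      show e (i.succ.succAbove j.succ) = _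
      rw [Fin.succ_succAbove_succ]
    rw [h1, Fin.succ_succAbove_zero, Fin.val_succ]
    congr 1
    ring

section Filtration

variable {n : ℕ} (b : Fin n → M)

/-- The span of the first `k` generators inside the exterior algebra. -/
def S (k : ℕ) : Submodule R (ExteriorAlgebra R M) :=
  Submodule.span R {y | ∃ j : Fin n, j.val < k ∧ ExteriorAlgebra.ι R (b j) = y}

theorem S_zero : S b 0 = (⊥ : Submodule R (ExteriorAlgebra R M)) := by
  rw [S, Submodule.span_eq_bot]
  rintro y ⟨j, hj, -⟩
  exact absurd hj (Nat.not_lt_zero _)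

theorem S_mono {k k' : ℕ} (h : k ≤ k') : S (R := R) b k ≤ S b k' :=
  Submodule.span_mono fun _ ⟨j, hj, e⟩ => ⟨j, hj.trans_le h, e⟩

theorem ι_mem_S {k : ℕ} (j : Fin n) (hj : j.val < k) : ExteriorAlgebra.ι R (b j) ∈ S b k :=
  Submodule.subset_span ⟨j, hj, rfl⟩

theorem S_pow_mono {k k' : ℕ} (h : k ≤ k') (p : ℕ) : S (R := R) b k ^ p ≤ S b k' ^ p :=
  pow_le_pow_left' (S_mono b h) p

theorem le_range_ι (k : ℕ) : S b k ≤ LinearMap.range (ExteriorAlgebra.ι R (M := M)) :=
  Submodule.span_le.mpr fun _ ⟨j, _, e⟩ => ⟨b j, e⟩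

theorem mem_decomp (k : ℕ) (hk : k < n) : ∀ p, ∀ w ∈ S (R := R) b (k + 1) ^ (p + 1),
    ∃ w0 ∈ S b k ^ (p + 1), ∃ w1 ∈ S b k ^ p, w = w0 + ExteriorAlgebra.ι R (b ⟨k, hk⟩) * w1 := by
  have hS : ∀ y ∈ S (R := R) b (k + 1), ∃ s ∈ S b k, ∃ c : R, y = s + c • ExteriorAlgebra.ι R (b ⟨k, hk⟩) := by
    intro y hy
    induction hy using Submodule.span_induction with
    | mem z hz =>
      obtain ⟨j, hj, rfl⟩ := hz
      rcases Nat.lt_succ_iff_lt_or_eq.mp hj with h | h
      · exact ⟨_, ι_mem_S b j h, 0, by rw [zero_smul, add_zero]⟩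
      · exact ⟨0, Submodule.zero_mem _, 1, by
          rw [one_smul, zero_add, show j = ⟨k, hk⟩ from Fin.ext h]⟩
    | zero => exact ⟨0, Submodule.zero_mem _, 0, by rw [zero_smul, add_zero]⟩
    | add a c _ _ ha hc =>
      obtain ⟨s, hs, r, rfl⟩ := ha
      obtain ⟨s', hs', r', rfl⟩ := hc
      exact ⟨s + s', Submodule.add_mem _ hs hs', r + r', by rw [add_smul]; abel⟩
    | smul a c _ hc =>
      obtain ⟨s, hs, r, rfl⟩ := hc
      exact ⟨a • s, Submodule.smul_mem _ _ hs, a * r, by rw [smul_add, smul_smul]⟩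
  intro p
  induction p with
  | zero =>
    intro w hw
    rw [pow_one] at hw
    obtain ⟨s, hs, c, rfl⟩ := hS w hw
    refine ⟨s, by rwa [pow_one], c • 1, Submodule.smul_mem _ _ (by rw [pow_zero]; exact Submodule.one_le.mp le_rfl), ?_⟩
    rw [Algebra.mul_smul_comm, mul_one]
  | succ p ih =>
    intro w hw
    rw [pow_succ'] at hw
    refine Submodule.mul_induction_on hw (fun y hy z hz => ?_) (fun a c ha hc => ?_)
    · obtain ⟨s, hs, c, rfl⟩ := hS y hy
      obtain ⟨w0, hw0, w1, hw1, rfl⟩ := ih z hz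
      have hcomm : ∀ s ∈ S (R := R) b k, s * ExteriorAlgebra.ι R (b ⟨k, hk⟩) =
          -(ExteriorAlgebra.ι R (b ⟨k, hk⟩) * s) := by
        intro s hs
        obtain ⟨v, rfl⟩ := le_range_ι b k hs
        exact ι_mul_ι_comm _ _
      refine ⟨s * w0, ?_, c • w0 - s * w1, ?_, ?_⟩
      · rw [pow_succ']
        exact Submodule.mul_mem_mul hs hw0
      · refine Submodule.sub_mem _ (Submodule.smul_mem _ _ hw0) ?_
        rw [pow_succ']
        exact Submodule.mul_mem_mul hs hw1
      · rw [add_mul, mul_add, mul_add, smul_mul_assoc, smul_mul_assoc, mul_sub, Algebra.mul_smul_comm,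
          ← mul_assoc s, hcomm s hs, neg_mul, ← mul_assoc (ExteriorAlgebra.ι R (b ⟨k, hk⟩)) (ExteriorAlgebra.ι R (b ⟨k, hk⟩)) w1,
          ExteriorAlgebra.ι_sq_zero, zero_mul, smul_zero]
        rw [mul_assoc]
        abel
    · obtain ⟨w0, hw0, w1, hw1, rfl⟩ := ha
      obtain ⟨v0, hv0, v1, hv1, rfl⟩ := hc
      exact ⟨w0 + v0, Submodule.add_mem _ hw0 hv0, w1 + v1, Submodule.add_mem _ hw1 hv1, by
        rw [mul_add]; abel⟩

theorem con_mem (φ : M →ₗ[R] R) (k : ℕ) : ∀ p, ∀ y ∈ S (R := R) b k ^ (p + 1), con φ y ∈ S b k ^ p := by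
  intro p
  induction p with
  | zero =>
    intro y hy
    rw [pow_one] at hy
    obtain ⟨v, rfl⟩ := le_range_ι b k hy
    rw [pow_zero, ← mul_one (ExteriorAlgebra.ι R v), con_ι_mul, con_one, mul_zero, sub_zero]
    exact Submodule.smul_mem _ _ (Submodule.one_le.mp le_rfl)
  | succ p ih =>
    intro y hy
    rw [pow_succ'] at hy
    refine Submodule.mul_induction_on hy (fun s hs z hz => ?_) (fun a c ha hc => by
      rw [map_add]; exact Submodule.add_mem _ ha hc)
    obtain ⟨v, rfl⟩ := le_range_ι b k hs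
    rw [con_ι_mul]
    refine Submodule.sub_mem _ (Submodule.smul_mem _ _ hz) ?_
    rw [pow_succ']
    exact Submodule.mul_mem_mul hs (ih z hz)

theorem con_eq_zero_of_kill (ψ : M →ₗ[R] R) (k : ℕ) (hψ : ∀ j : Fin n, j.val < k → ψ (b j) = 0) :
    ∀ p, ∀ y ∈ S (R := R) b k ^ p, con ψ y = 0 := by
  intro p
  induction p with
  | zero =>
    intro y hy
    rw [pow_zero, Submodule.mem_one] at hy
    obtain ⟨r, rfl⟩ := hy
    rw [Algebra.algebraMap_eq_smul_one, map_smul, con_one, smul_zero]
  | succ p ih =>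
    intro y hy
    rw [pow_succ'] at hy
    refine Submodule.mul_induction_on hy (fun s hs z hz => ?_) (fun a c ha hc => by rw [map_add, ha, hc, add_zero])
    obtain ⟨v, hv, rfl⟩ : ∃ v ∈ Submodule.span R (b '' {j | j.val < k}), ExteriorAlgebra.ι R v = s := by
      have : S (R := R) b k = (Submodule.span R (b '' {j | j.val < k})).map (ExteriorAlgebra.ι R) := by
        rw [Submodule.map_span, S, ← Set.image_comp]
        rfl
      rw [this] at hs
      exact hs
    have : ψ v = 0 := by
      clear hs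
      induction hv using Submodule.span_induction with
      | mem a ha =>
        obtain ⟨j, hj, rfl⟩ := ha
        exact hψ j hj
      | zero => exact map_zero ψ
      | add a c _ _ ha hc => rw [map_add, ha, hc, add_zero]
      | smul a c _ hc => rw [map_smul, hc, smul_zero]
    rw [con_ι_mul, this, zero_smul, ih z hz, mul_zero, sub_zero]

end Filtration

/-- Contraction with a form taking a weakly regular sequence of values on a basis is exact in positive degree. -/
theorem con_exact_aux {n : ℕ} (b : Module.Basis (Fin n) R M) (φ : M →ₗ[R] R)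
    (hreg : IsWeaklyRegular R (List.ofFn fun k => φ (b k))) :
    ∀ k, k ≤ n → ∀ p, ∀ w ∈ S (R := R) b k ^ (p + 1), con φ w = 0 →
      ∃ u ∈ S (R := R) b k ^ (p + 2), con φ u = w := by
  intro k
  induction k with
  | zero =>
    intro _ p w hw _
    rw [S_zero, pow_succ', Submodule.bot_mul, Submodule.mem_bot] at hw
    exact ⟨0, Submodule.zero_mem _, by rw [map_zero, hw]⟩
  | succ k ih =>
    intro hk p w hw h0
    have hkn : k < n := hk
    set e := ExteriorAlgebra.ι R (b ⟨k, hkn⟩) with he
    obtain ⟨w0, hw0, w1, hw1, rfl⟩ := mem_decomp b k hkn p w hw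
    have hindep : ∀ a y, ∀ q q', a ∈ S (R := R) b k ^ q → y ∈ S (R := R) b k ^ q' → a + e * y = 0 →
        a = 0 ∧ y = 0 := by
      intro a y q q' ha hy h
      have hψ : ∀ j : Fin n, j.val < k → b.coord ⟨k, hkn⟩ (b j) = 0 := fun j hj => by
        rw [Module.Basis.coord_apply, Module.Basis.repr_self, Finsupp.single_eq_of_ne]
        exact fun hh => (Nat.ne_of_lt hj) (congrArg Fin.val hh.symm)
      have h1 := congrArg (con (b.coord ⟨k, hkn⟩)) h
      rw [map_add, map_zero, con_eq_zero_of_kill b _ k hψ q a ha, zero_add, he, con_ι_mul,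
        con_eq_zero_of_kill b _ k hψ q' y hy, mul_zero, sub_zero, Module.Basis.coord_apply,
        Module.Basis.repr_self, Finsupp.single_eq_same, one_smul] at h1
      subst h1
      rw [mul_zero, add_zero] at h
      exact ⟨h, rfl⟩
    have h0' : (con φ w0 + φ (b ⟨k, hkn⟩) • w1) + e * -(con φ w1) = 0 := by
      rw [map_add, con_ι_mul] at h0
      rw [mul_neg, ← h0]
      abel
    have hlift : ∃ u1 ∈ S (R := R) b k ^ (p + 1), con φ u1 = w1 := by
      rcases p with _ | p
      · rw [pow_zero, Submodule.mem_one] at hw1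
        obtain ⟨c, rfl⟩ := hw1
        have hmem := con_mem b φ k 0 w0 hw0
        have h1 : con φ w0 + φ (b ⟨k, hkn⟩) • algebraMap R (ExteriorAlgebra R M) c = 0 := by
          refine (hindep _ _ 0 0 (Submodule.add_mem _ hmem ?_) ?_ h0').1
          · exact Submodule.smul_mem _ _ (by rw [pow_zero, Submodule.mem_one]; exact ⟨c, rfl⟩)
          · rw [Algebra.algebraMap_eq_smul_one, map_smul, con_one, smul_zero, neg_zero]
            exact Submodule.zero_mem _
        let I : Ideal R := Ideal.ofList ((List.ofFn fun j => φ (b j)).take k)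
        have himg : ∀ y ∈ S (R := R) b k, ∃ r ∈ I, con φ y = algebraMap R _ r := by
          intro y hy
          induction hy using Submodule.span_induction with
          | mem z hz =>
            obtain ⟨j, hj, rfl⟩ := hz
            refine ⟨φ (b j), Ideal.subset_span ?_, ?_⟩
            · show φ (b j) ∈ (List.ofFn fun j => φ (b j)).take k
              rw [List.mem_take_iff_getElem]
              exact ⟨j.val, by simp only [List.length_ofFn]; omega, by simp⟩
            · rw [← mul_one (ExteriorAlgebra.ι R (b j)), con_ι_mul, con_one, mul_zero, sub_zero,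
                ← Algebra.algebraMap_eq_smul_one]
          | zero => exact ⟨0, Submodule.zero_mem _, by rw [map_zero, map_zero]⟩
          | add a c _ _ ha hc =>
            obtain ⟨r, hr, e1⟩ := ha
            obtain ⟨r', hr', e2⟩ := hc
            exact ⟨r + r', Submodule.add_mem _ hr hr', by rw [map_add, map_add, e1, e2]⟩
          | smul a c _ hc =>
            obtain ⟨r, hr, e1⟩ := hc
            exact ⟨a * r, Ideal.mul_mem_left _ _ hr, by rw [map_smul, e1, map_mul, Algebra.smul_def]⟩
        rw [pow_one] at hw0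
        obtain ⟨r, hr, er⟩ := himg w0 hw0
        have h2 : r + φ (b ⟨k, hkn⟩) * c = 0 := by
          apply ExteriorAlgebra.algebraMap_leftInverse (R := R) M |>.injective
          rw [map_add, map_mul, map_zero, ← er, ← Algebra.smul_def]
          exact h1
        have h3 : φ (b ⟨k, hkn⟩) * c ∈ I := by
          rw [eq_neg_of_add_eq_zero_right h2]
          exact Submodule.neg_mem _ hr
        have h4 : c ∈ I := by
          have hlen : k < (List.ofFn fun j => φ (b j)).length := by rw [List.length_ofFn]; exact hkn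
          have h5 := hreg.regular_mod_prev k hlen
          rw [isSMulRegular_quotient_iff_mem_of_smul_mem] at h5
          simp only [List.getElem_ofFn, smul_eq_mul, Ideal.mul_top] at h5
          exact h5 c h3
        have hrev : ∀ r ∈ I, ∃ y ∈ S (R := R) b k, con φ y = algebraMap R _ r := by
          intro r hr
          induction hr using Submodule.span_induction with
          | mem z hz =>
            have hz' : z ∈ (List.ofFn fun j => φ (b j)).take k := hz
            rw [List.mem_take_iff_getElem] at hz'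
            obtain ⟨j, hj, rfl⟩ := hz'
            simp only [List.length_ofFn] at hj
            refine ⟨ExteriorAlgebra.ι R (b ⟨j, by omega⟩), ι_mem_S b _ (show j < k by omega), ?_⟩
            rw [← mul_one (ExteriorAlgebra.ι R (b ⟨j, by omega⟩)), con_ι_mul, con_one, mul_zero, sub_zero,
              Algebra.algebraMap_eq_smul_one]
            simp
          | zero => exact ⟨0, Submodule.zero_mem _, by rw [map_zero, map_zero]⟩
          | add a c _ _ ha hc =>
            obtain ⟨y, hy, e1⟩ := ha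
            obtain ⟨y', hy', e2⟩ := hc
            exact ⟨y + y', Submodule.add_mem _ hy hy', by rw [map_add, map_add, e1, e2]⟩
          | smul a c _ hc =>
            obtain ⟨y, hy, e1⟩ := hc
            exact ⟨a • y, Submodule.smul_mem _ _ hy, by rw [map_smul, e1, smul_eq_mul, map_mul, Algebra.smul_def]⟩
        obtain ⟨y, hy, ey⟩ := hrev c h4
        exact ⟨y, by rwa [pow_one], ey⟩
      · have hmem := con_mem b φ k (p + 1) w0 hw0
        refine ih (Nat.le_of_lt hkn) p w1 hw1 ?_
        have := (hindep _ _ (p + 1) p (Submodule.add_mem _ hmem (Submodule.smul_mem _ _ hw1))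
          (Submodule.neg_mem _ (con_mem b φ k p w1 hw1)) h0').2
        exact neg_eq_zero.mp this
    obtain ⟨u1, hu1, hu1w⟩ := hlift
    have hv : con φ (w0 + φ (b ⟨k, hkn⟩) • u1) = 0 := by
      have : con φ w1 = 0 := by rw [← hu1w, con_con]
      rw [this, neg_zero, mul_zero, add_zero] at h0'
      rw [map_add, map_smul, hu1w]
      exact h0'
    obtain ⟨u0, hu0, hu0w⟩ := ih (Nat.le_of_lt hkn) p (w0 + φ (b ⟨k, hkn⟩) • u1)
      (Submodule.add_mem _ hw0 (Submodule.smul_mem _ _ hu1)) hv
    refine ⟨u0 - e * u1, Submodule.sub_mem _ (S_pow_mono b (Nat.le_succ k) _ hu0) ?_, ?_⟩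
    · rw [pow_succ']
      exact Submodule.mul_mem_mul (ι_mem_S b ⟨k, hkn⟩ (Nat.lt_succ_self k)) (S_pow_mono b (Nat.le_succ k) _ hu1)
    · rw [map_sub, he, con_ι_mul, hu0w, hu1w]
      abel

theorem S_top {n : ℕ} (b : Module.Basis (Fin n) R M) :
    S (R := R) b n = LinearMap.range (ExteriorAlgebra.ι R (M := M)) := by
  refine le_antisymm (le_range_ι b n) ?_
  rw [LinearMap.range_eq_map, ← b.span_eq, Submodule.map_span, Submodule.span_le]
  rintro _ ⟨_, ⟨j, rfl⟩, rfl⟩
  exact ι_mem_S b j j.2

/-- The Koszul complex of a weakly regular sequence, written with exterior powers, is exact in positive degree. -/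
theorem exact_of_isWeaklyRegular {n : ℕ} (b : Module.Basis (Fin n) R M) (φ : M →ₗ[R] R)
    (hreg : IsWeaklyRegular R (List.ofFn fun k => φ (b k))) (p : ℕ)
    (d₁ : ↥(⋀[R]^(p + 2) M) →ₗ[R] ↥(⋀[R]^(p + 1) M)) (d₀ : ↥(⋀[R]^(p + 1) M) →ₗ[R] ↥(⋀[R]^p M))
    (h₁ : ∀ e, d₁ (exteriorPower.ιMulti R (p + 2) e) = KoszSh.dGen φ (p + 1) e)
    (h₀ : ∀ e, d₀ (exteriorPower.ιMulti R (p + 1) e) = KoszSh.dGen φ p e)
    (w : ↥(⋀[R]^(p + 1) M)) (hw : d₀ w = 0) : ∃ u, d₁ u = w := by
  have key : ∀ (q : ℕ) (d : ↥(⋀[R]^(q + 1) M) →ₗ[R] ↥(⋀[R]^q M)),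
      (∀ e, d (exteriorPower.ιMulti R (q + 1) e) = KoszSh.dGen φ q e) →
      ∀ v, (d v : ExteriorAlgebra R M) = con φ v := by
    intro q d hd v
    have h : (Submodule.subtype _).comp d = (con φ).comp (Submodule.subtype _) := by
      refine exteriorPower.linearMap_ext ?_
      ext e
      show (d (exteriorPower.ιMulti R (q + 1) e) : ExteriorAlgebra R M) = con φ (exteriorPower.ιMulti R (q + 1) e : ExteriorAlgebra R M)
      rw [hd, exteriorPower.ιMulti_apply_coe, con_ιMulti]
    exact LinearMap.congr_fun h v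
  have h0 : con φ (w : ExteriorAlgebra R M) = 0 := by rw [← key p d₀ h₀ w, hw]; rfl
  have hmem : (w : ExteriorAlgebra R M) ∈ S (R := R) b n ^ (p + 1) := by
    rw [S_top]
    exact w.2
  obtain ⟨u, hu, hu'⟩ := con_exact_aux b φ hreg n le_rfl p w hmem h0
  rw [S_top] at hu
  exact ⟨⟨u, hu⟩, Subtype.ext ((key (p + 1) d₁ h₁ ⟨u, hu⟩).trans hu')⟩

end Groth.Agent.KoszSh77
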