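import Groth.Agent.KoszSh77.RegH
import Mathlib.LinearAlgebra.ExteriorPower.Basis

/-!
# The Koszul complex of `n` equal elements
-/

set_option autoImplicit false

universe u v

noncomputable section

namespace Groth.Agent.KoszSh77

variable {R : Type u} [CommRing R] {M : Type v} [AddCommGroup M] [Module R M]

theorem con_smul (x : R) (φ : M →ₗ[R] R) (y : ExteriorAlgebra R M) : con (x • φ) y = x • con φ y := by
  unfold con
  rw [map_smul]
  rfl

/-- The projection along `e`, on the exterior algebra. -/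
theorem map_proj (φ : M →ₗ[R] R) (e : M) (P : M →ₗ[R] M) (hP : ∀ v, P v = v - φ v • e) (he : φ e = 1)
    (y : ExteriorAlgebra R M) : ExteriorAlgebra.map P y = con φ (ExteriorAlgebra.ι R e * y) := by
  induction y using CliffordAlgebra.left_induction with
  | algebraMap r =>
    rw [AlgHom.commutes, con_ι_mul, he, one_smul, Algebra.algebraMap_eq_smul_one, map_smul, con_one, smul_zero,
      mul_zero, sub_zero]
  | add a b ha hb => simp only [map_add, mul_add, ha, hb]
  | ι_mul a v ha =>
    show ExteriorAlgebra.map P (ExteriorAlgebra.ι R v * a) = con φ (ExteriorAlgebra.ι R e * (ExteriorAlgebra.ι R v * a))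
    rw [map_mul, ExteriorAlgebra.map_apply_ι, ha, hP, map_sub, map_smul, con_ι_mul, con_ι_mul, he, one_smul, one_smul,
      con_ι_mul]
    simp only [sub_mul, mul_sub, smul_mul_assoc, mul_smul_comm, ← mul_assoc, ExteriorAlgebra.ι_sq_zero, zero_mul,
      smul_zero, sub_zero, ι_mul_ι_comm v e, neg_mul]
    abel

variable (R) in
/-- The sum of the coordinates. -/
def sumForm (n : ℕ) : (Fin n → R) →ₗ[R] R := ∑ i, LinearMap.proj i

theorem sumForm_apply {n : ℕ} (v : Fin n → R) : sumForm R n v = ∑ i, v i := by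
  simp [sumForm]

variable (R) in
/-- The kernel of the sum, parametrised. -/
def alpha : (n : ℕ) → ((Fin (n - 1) → R) →ₗ[R] (Fin n → R))
  | 0 => 0
  | m + 1 => LinearMap.pi (Fin.cases (-sumForm R m) fun j => LinearMap.proj j)

variable (R) in
/-- Its left inverse. -/
def beta : (n : ℕ) → ((Fin n → R) →ₗ[R] (Fin (n - 1) → R))
  | 0 => 0
  | m + 1 => LinearMap.pi fun j => LinearMap.proj (Fin.succ j)

theorem beta_alpha : ∀ n, (beta R n).comp (alpha R n) = LinearMap.id
  | 0 => LinearMap.ext fun v => funext fun j => j.elim0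
  | m + 1 => LinearMap.ext fun v => funext fun j => by simp [alpha, beta]

theorem sumForm_alpha : ∀ n, (sumForm R n).comp (alpha R n) = 0
  | 0 => LinearMap.ext fun v => by simp [alpha]
  | m + 1 => LinearMap.ext fun v => by simp [alpha, sumForm_apply, Fin.sum_univ_succ]

theorem map_alpha_beta (n : ℕ) (y : ExteriorAlgebra R (Fin n → R)) (hy : con (sumForm R n) y = 0) :
    ExteriorAlgebra.map (alpha R n) (ExteriorAlgebra.map (beta R n) y) = y := by
  rw [← AlgHom.comp_apply, ExteriorAlgebra.map_comp_map]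
  rcases n with _ | m
  · rw [show (alpha R 0).comp (beta R 0) = LinearMap.id from LinearMap.ext fun v => funext fun j => j.elim0,
      ExteriorAlgebra.map_id, AlgHom.id_apply]
  · rw [map_proj (sumForm R (m + 1)) (Pi.single 0 1) _ (fun v => funext fun i => ?_) (by simp [sumForm_apply]),
      con_ι_mul, hy, mul_zero, sub_zero, show sumForm R (m + 1) (Pi.single 0 1) = 1 by simp [sumForm_apply], one_smul]
    refine Fin.cases ?_ (fun j => ?_) i
    · simp [alpha, beta, sumForm_apply, Fin.sum_univ_succ]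
    · simp [alpha, beta]

/-- A cycle is a boundary of the sum. -/
theorem eq_con_of_cycle (m : ℕ) (y : ExteriorAlgebra R (Fin (m + 1) → R)) (hy : con (sumForm R (m + 1)) y = 0) :
    con (sumForm R (m + 1)) (ExteriorAlgebra.ι R (Pi.single 0 1 : Fin (m + 1) → R) * y) = y := by
  rw [con_ι_mul, hy, mul_zero, sub_zero, show sumForm R (m + 1) (Pi.single 0 1) = 1 by simp [sumForm_apply], one_smul]

section Transport

variable {n : ℕ} (B : (Fin n → R) ≃ₗ[R] M) {φ : M →ₗ[R] R} {x : R} (hφ : φ.comp B.toLinearMap = x • sumForm R n)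

include hφ in
theorem con_map_equiv (y : ExteriorAlgebra R (Fin n → R)) :
    con φ (ExteriorAlgebra.map B.toLinearMap y) = x • ExteriorAlgebra.map B.toLinearMap (con (sumForm R n) y) := by
  rw [con_map, hφ, con_smul, map_smul]

theorem exists_map_equiv_eq {p : ℕ} {z : ExteriorAlgebra R M}
    (hz : z ∈ (⋀[R]^p M : Submodule R (ExteriorAlgebra R M))) :
    ∃ y ∈ (⋀[R]^p (Fin n → R) : Submodule R (ExteriorAlgebra R (Fin n → R))), ExteriorAlgebra.map B.toLinearMap y = z := by
  refine ⟨_, map_mem_exteriorPower B.symm.toLinearMap p hz, ?_⟩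
  rw [← AlgHom.comp_apply, ExteriorAlgebra.map_comp_map, show B.toLinearMap.comp B.symm.toLinearMap = LinearMap.id
    from LinearMap.ext B.apply_symm_apply, ExteriorAlgebra.map_id, AlgHom.id_apply]

theorem map_equiv_injective : Function.Injective (ExteriorAlgebra.map (B : (Fin n → R) →ₗ[R] M)) :=
  Function.LeftInverse.injective (g := ExteriorAlgebra.map B.symm.toLinearMap) fun y => by
    rw [← AlgHom.comp_apply, ExteriorAlgebra.map_comp_map, show B.symm.toLinearMap.comp B.toLinearMap = LinearMap.id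
      from LinearMap.ext B.symm_apply_apply, ExteriorAlgebra.map_id, AlgHom.id_apply]

include hφ in
/-- Cycles. -/
theorem cycle_eq (hx : x ∈ nonZeroDivisors R) {p : ℕ} {z : ExteriorAlgebra R M}
    (hz : z ∈ (⋀[R]^(p + 1) M : Submodule R (ExteriorAlgebra R M))) (hc : con φ z = 0) :
    ∃ y ∈ (⋀[R]^(p + 1) (Fin n → R) : Submodule R (ExteriorAlgebra R (Fin n → R))),
      ExteriorAlgebra.map B.toLinearMap y = z ∧ con (sumForm R n) y = 0 := by
  obtain ⟨y, hy, rfl⟩ := exists_map_equiv_eq B hz
  refine ⟨y, hy, rfl, ?_⟩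
  rw [con_map_equiv B hφ, ← map_smul] at hc
  have h0 : x • con (sumForm R n) y = 0 := map_equiv_injective B (hc.trans (map_zero _).symm)
  have hm : con (sumForm R n) y ∈ (⋀[R]^p (Fin n → R) : Submodule R (ExteriorAlgebra R (Fin n → R))) := by
    have := con_mem (R := R) (Pi.basisFun R (Fin n)) (sumForm R n) n p y (by rw [S_top]; exact hy)
    rwa [S_top] at this
  let w : ↥(⋀[R]^p (Fin n → R)) := ⟨_, hm⟩
  have hw : x • w = 0 := Subtype.ext h0
  have hw0 : w = 0 := by
    refine ((Pi.basisFun R (Fin n)).exteriorPower p).ext_elem fun i => ?_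
    have := congrArg (fun v => ((Pi.basisFun R (Fin n)).exteriorPower p).repr v i) hw
    simp only [map_smul, Finsupp.smul_apply, smul_eq_mul, map_zero, Finsupp.zero_apply] at this
    rw [map_zero, Finsupp.zero_apply]
    exact (mem_nonZeroDivisors_iff_left.mp hx) _ this
  exact congrArg Subtype.val hw0

include hφ in
/-- Cycles come from the kernel of the sum. -/
theorem cycle_eq_map (hx : x ∈ nonZeroDivisors R) {p : ℕ} {z : ExteriorAlgebra R M}
    (hz : z ∈ (⋀[R]^p M : Submodule R (ExteriorAlgebra R M))) (hc : con φ z = 0) :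
    ∃ w ∈ (⋀[R]^p (Fin (n - 1) → R) : Submodule R (ExteriorAlgebra R (Fin (n - 1) → R))),
      ExteriorAlgebra.map (B.toLinearMap.comp (alpha R n)) w = z := by
  obtain ⟨y, hy, rfl, hy0⟩ : ∃ y ∈ (⋀[R]^p (Fin n → R) : Submodule R (ExteriorAlgebra R (Fin n → R))),
      ExteriorAlgebra.map B.toLinearMap y = z ∧ con (sumForm R n) y = 0 := by
    rcases p with _ | p
    · obtain ⟨y, hy, rfl⟩ := exists_map_equiv_eq B hz
      refine ⟨y, hy, rfl, ?_⟩
      have h : y ∈ (LinearMap.range (ExteriorAlgebra.ι R (M := Fin n → R))) ^ 0 := hy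
      rw [pow_zero, Submodule.mem_one] at h
      obtain ⟨r, rfl⟩ := h
      rw [Algebra.algebraMap_eq_smul_one, map_smul, con_one, smul_zero]
    · exact cycle_eq B hφ hx hz hc
  refine ⟨_, map_mem_exteriorPower (beta R n) p hy, ?_⟩
  rw [← ExteriorAlgebra.map_comp_map, AlgHom.comp_apply, map_alpha_beta n y hy0]

include hφ in
theorem con_map_alpha (w : ExteriorAlgebra R (Fin (n - 1) → R)) :
    con φ (ExteriorAlgebra.map (B.toLinearMap.comp (alpha R n)) w) = 0 := by
  rw [con_map, ← LinearMap.comp_assoc, hφ, LinearMap.smul_comp, sumForm_alpha, smul_zero]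
  have h0 : con (0 : (Fin (n - 1) → R) →ₗ[R] R) w = 0 := by
    simp [con]
  rw [h0, map_zero]

include hφ in
/-- Multiples of cycles are boundaries. -/
theorem smul_cycle_eq_con (hn : 1 ≤ n) (hx : x ∈ nonZeroDivisors R) {p : ℕ} {z : ExteriorAlgebra R M}
    (hz : z ∈ (⋀[R]^p M : Submodule R (ExteriorAlgebra R M))) (hc : con φ z = 0) :
    ∃ u ∈ (⋀[R]^(p + 1) M : Submodule R (ExteriorAlgebra R M)), x • z = con φ u := by
  obtain ⟨w, hw, rfl⟩ := cycle_eq_map B hφ hx hz hc
  obtain ⟨m, rfl⟩ := Nat.exists_eq_add_of_le' hn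
  rw [← ExteriorAlgebra.map_comp_map, AlgHom.comp_apply]
  refine ⟨ExteriorAlgebra.map B.toLinearMap (ExteriorAlgebra.ι R (Pi.single 0 1 : Fin (m + 1) → R) *
    ExteriorAlgebra.map (alpha R (m + 1)) w), map_mem_exteriorPower _ _ ?_, ?_⟩
  · show _ ∈ LinearMap.range (ExteriorAlgebra.ι R) ^ (p + 1)
    rw [pow_succ']
    exact Submodule.mul_mem_mul (LinearMap.mem_range_self _ _) (map_mem_exteriorPower _ p hw)
  · rw [con_map_equiv B hφ, eq_con_of_cycle]
    rw [con_map, sumForm_alpha]
    simp [con]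

include hφ in
/-- Boundaries are multiples of cycles. -/
theorem con_eq_smul_cycle {p : ℕ} {u : ExteriorAlgebra R M}
    (hu : u ∈ (⋀[R]^(p + 1) M : Submodule R (ExteriorAlgebra R M))) :
    ∃ z ∈ (⋀[R]^p M : Submodule R (ExteriorAlgebra R M)), con φ z = 0 ∧ con φ u = x • z := by
  obtain ⟨y, hy, rfl⟩ := exists_map_equiv_eq B hu
  refine ⟨ExteriorAlgebra.map B.toLinearMap (con (sumForm R n) y), map_mem_exteriorPower _ p ?_, ?_, con_map_equiv B hφ y⟩
  · have := con_mem (R := R) (Pi.basisFun R (Fin n)) (sumForm R n) n p y (by rw [S_top]; exact hy)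
    rwa [S_top] at this
  · rw [con_map_equiv B hφ, con_con, map_zero, smul_zero]

end Transport

end Groth.Agent.KoszSh77
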