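import Groth.Agent.KoszSh77.Scale
import Groth.Agent.KoszSh77.Cycles
import Groth.Agent.KoszSh77.Unit
import Groth.Prelude.Def_KoszTw

/-!
# Homology of the Koszul complex of twisted divisors
-/

set_option autoImplicit false
set_option backward.isDefEq.respectTransparency false
set_option backward.isDefEq.respectTransparency.types false
set_option linter.style.haveILetI false
set_option maxHeartbeats 800000

universe u

open CategoryTheory CategoryTheory.Limits AlgebraicGeometry TopologicalSpace Opposite exteriorPower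
open Groth.Agent.KoszTwLib Groth.Agent.LFFrame

noncomputable section

namespace Groth.Agent.KoszSh77

variable {X : Scheme.{u}}

/-- Sections of a fibre product are determined by their components. -/
theorem pullback_app_ext {A B C : X.Modules} (f : A ⟶ C) (g : B ⟶ C) (U : X.Opens) {x y : Γ(pullback f g, U)}
    (h1 : (pullback.fst f g).app U x = (pullback.fst f g).app U y)
    (h2 : (pullback.snd f g).app U x = (pullback.snd f g).app U y) : x = y := by
  haveI : HasBinaryBiproducts X.Modules := Abelian.hasBinaryBiproducts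
  let z := pullback.fst f g ≫ biprod.inl + pullback.snd f g ≫ biprod.inr
  have hf : z ≫ biprod.fst = pullback.fst f g := by simp [z]
  have hs : z ≫ biprod.snd = pullback.snd f g := by simp [z]
  haveI : Mono z := ⟨fun a b hab => pullback.hom_ext
    (by rw [← hf, ← Category.assoc, hab, Category.assoc])
    (by rw [← hs, ← Category.assoc, hab, Category.assoc])⟩
  refine QCoh.app_injective_of_mono z U ?_
  show (biprod.inl : A ⟶ A ⊞ B).app U _ + (biprod.inr : B ⟶ A ⊞ B).app U _ =
    (biprod.inl : A ⟶ A ⊞ B).app U _ + (biprod.inr : B ⟶ A ⊞ B).app U _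
  exact congrArg₂ (· + ·) (congrArg _ h1) (congrArg _ h2)

variable {n : ℕ} (IY : Fin n → X.IdealSheafData) (ID : X.IdealSheafData)
  (hY : ∀ i, BlowUp.IsEffCartierIdeal (IY i))

/-- The section of the ideal module with a given equation. -/
def genSect {U : X.affineOpens} {g : Γ(X, U.1)} (hJ : ID.ideal U = Ideal.span {g}) : Γ(ClSub.idealMod ID, U.1) :=
  (IdealSh.IdealMod.exists_sect ID U.1 g ((IdealSh.IdealMod.mem_ideal_iff ID U g).mp
    (hJ ▸ Ideal.subset_span rfl))).choose

theorem idealSect_genSect {U : X.affineOpens} {g : Γ(X, U.1)} (hJ : ID.ideal U = Ideal.span {g}) :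
    OmegaSh.idealSect ID U.1 (genSect ID hJ) = g :=
  (IdealSh.IdealMod.exists_sect ID U.1 g ((IdealSh.IdealMod.mem_ideal_iff ID U g).mp
    (hJ ▸ Ideal.subset_span rfl))).choose_spec

theorem isFrame_genSect {U : X.affineOpens} {g : Γ(X, U.1)} (hg : g ∈ nonZeroDivisors Γ(X, U.1))
    (hJ : ID.ideal U = Ideal.span {g}) : IsFrame (ClSub.idealMod ID) U.1 ![genSect ID hJ] := by
  obtain ⟨e, he, he0⟩ := IdealSh.IdealMod.exists_isFrame_of_equation ID hg hJ
  have h1 : ![genSect ID hJ] = e := by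
    funext k
    fin_cases k
    exact Omega.Stalks.idealSect_injective _ _ ((idealSect_genSect ID hJ).trans he0.symm)
  rw [h1]
  exact he

/-- The frame of `O(-qD)`. -/
def genPow (q : ℕ) {U : X.affineOpens} {g : Γ(X, U.1)} (hJ : ID.ideal U = Ideal.span {g}) :
    Γ(CohB1.tensorPow (ClSub.idealMod ID) q, U.1) :=
  KoszTw.tprod (ClSub.idealMod ID) q U.1 fun _ => genSect ID hJ

theorem genPow_mul (q : ℕ) {U : X.affineOpens} {g g' u : Γ(X, U.1)} (hJ : ID.ideal U = Ideal.span {g})
    (hJ' : ID.ideal U = Ideal.span {g'}) (hu : g' = u * g) : genPow ID q hJ' = u ^ q • genPow ID q hJ := by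
  have h1 : genSect ID hJ' = u • genSect ID hJ := Omega.Stalks.idealSect_injective _ _ (by
    rw [Omega.Stalks.idealSect_smul, idealSect_genSect, idealSect_genSect, hu])
  induction q with
  | zero => rw [pow_zero, one_smul]; rfl
  | succ q ih =>
    show SecTwist.tmul (CohB1.tensorPow (ClSub.idealMod ID) q) (ClSub.idealMod ID) U.1 (genPow ID q hJ') (genSect ID hJ') =
      u ^ (q + 1) • tmulLin (CohB1.tensorPow (ClSub.idealMod ID) q) (ClSub.idealMod ID) U.1 (genSect ID hJ) (genPow ID q hJ)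
    rw [h1, tmul_smul_right, ih, ← mul_smul, ← pow_succ', map_smul]

theorem res_genPow (q : ℕ) {U V : X.affineOpens} (h : V.1 ≤ U.1) {g : Γ(X, U.1)} (hJ : ID.ideal U = Ideal.span {g})
    (hJV : ID.ideal V = Ideal.span {X.presheaf.map (homOfLE h).op g}) :
    QCoh.res _ h (genPow ID q hJ) = genPow ID q hJV := by
  refine (KoszTw.map_tprod _ q (homOfLE h) _).trans ?_
  refine congrArg (KoszTw.tprod (ClSub.idealMod ID) q V.1) (funext fun _ => Omega.Stalks.idealSect_injective _ _ ?_)
  erw [Omega.Stalks.idealSect_map]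
  rw [idealSect_genSect, idealSect_genSect]

variable (C : KoszSh.Cx (sumIdeal IY) (sumι IY))
  (C' : KoszSh.Cx (sumIdeal fun i => IY i * ID) (sumι fun i => IY i * ID)) (q : ℕ)

theorem eq_zero_of_smul_eq_zero {U : X.affineOpens} {g : Γ(X, U.1)} (hg : g ∈ nonZeroDivisors Γ(X, U.1))
    (hf : ∀ i, ∃ f ∈ nonZeroDivisors Γ(X, U.1), (IY i).ideal U = Ideal.span {f})
    (p : ℕ) (z : Γ(C.K.X p, U.1)) (hz : g • z = 0) : z = 0 := by
  obtain ⟨b⟩ := exists_basis IY U hf
  haveI := free_term C p U b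
  exact smul_eq_zero_of_free (fun r hr => (mem_nonZeroDivisors_iff_right.mp hg) r hr) hz

section Local

variable {U : X.affineOpens} {g : Γ(X, U.1)} (hg : g ∈ nonZeroDivisors Γ(X, U.1)) (hJ : ID.ideal U = Ideal.span {g})

theorem exists_thetaCycles (hf : ∀ i, ∃ f ∈ nonZeroDivisors Γ(X, U.1), (IY i).ideal U = Ideal.span {f}) :
    ∃ Θ : Γ(C.K.cycles q, U.1) ≃ₗ[Γ(X, U.1)] Γ(C'.K.cycles q, U.1),
      ∀ c, (C'.K.iCycles q).app U.1 (Θ c) = theta IY ID hg hJ C C' q ((C.K.iCycles q).app U.1 c) := by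
  have h1 : ∀ c : Γ(C.K.cycles q, U.1), ∃ c', (C'.K.iCycles q).app U.1 c' =
      theta IY ID hg hJ C C' q ((C.K.iCycles q).app U.1 c) := fun c => by
    refine exists_cycle q _ rfl U.1 _ ?_
    rw [d_theta, d_iCycles_app, map_zero, smul_zero]
  choose φ hφ using h1
  refine ⟨LinearEquiv.ofBijective
    { toFun := φ
      map_add' := fun a b => iCycles_app_injective q U.1 (by rw [map_add, hφ, hφ, hφ, map_add, map_add])
      map_smul' := fun r a => iCycles_app_injective q U.1 (by
        rw [RingHom.id_apply, Scheme.Modules.Hom.app_smul, hφ, hφ, Scheme.Modules.Hom.app_smul, map_smul]) }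
    ⟨fun a b hab => iCycles_app_injective q U.1 ((theta IY ID hg hJ C C' q).injective
      ((hφ a).symm.trans ((congrArg _ hab).trans (hφ b)))), fun c' => ?_⟩, hφ⟩
  let z := (theta IY ID hg hJ C C' q).symm ((C'.K.iCycles q).app U.1 c')
  have h2 := d_theta IY ID hg hJ C C' q ((ComplexShape.down ℕ).next q) z
  rw [LinearEquiv.apply_symm_apply, d_iCycles_app, ← map_smul, eq_comm, LinearEquiv.map_eq_zero_iff] at h2
  obtain ⟨c, hc⟩ := exists_cycle q _ rfl U.1 z (eq_zero_of_smul_eq_zero IY C hg hf _ _ h2)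
  refine ⟨c, iCycles_app_injective q U.1 ?_⟩
  show (C'.K.iCycles q).app U.1 (φ c) = _
  rw [hφ, hc, LinearEquiv.apply_symm_apply]

end Local

/-- The fibre product of the statement. -/
abbrev fibreProd : X.Modules :=
  pullback ((Scheme.Modules.pullback ID.subschemeι ⋙ Scheme.Modules.pushforward ID.subschemeι).map (C.K.homologyπ q))
    ((Scheme.Modules.pullbackPushforwardAdjunction ID.subschemeι).unit.app (C.K.homology q))

/-- Restriction to `D`. -/
abbrev etaD (G : X.Modules) :
    G ⟶ (Scheme.Modules.pullback ID.subschemeι ⋙ Scheme.Modules.pushforward ID.subschemeι).obj G :=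
  (Scheme.Modules.pullbackPushforwardAdjunction ID.subschemeι).unit.app G

/-- First projection of the fibre product. -/
abbrev fstP : fibreProd IY ID C q ⟶
    (Scheme.Modules.pullback ID.subschemeι ⋙ Scheme.Modules.pushforward ID.subschemeι).obj (C.K.cycles q) :=
  pullback.fst _ _

/-- Second projection of the fibre product. -/
abbrev sndP : fibreProd IY ID C q ⟶ C.K.homology q := pullback.snd _ _

/-- The cycles map to the fibre product. -/
def toFibre : C.K.cycles q ⟶ fibreProd IY ID C q :=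
  pullback.lift ((Scheme.Modules.pullbackPushforwardAdjunction ID.subschemeι).unit.app (C.K.cycles q))
    (C.K.homologyπ q) ((Scheme.Modules.pullbackPushforwardAdjunction ID.subschemeι).unit.naturality (C.K.homologyπ q)).symm

theorem fst_toFibre_app (U : X.Opens) (c : Γ(C.K.cycles q, U)) :
    (fstP IY ID C q).app U ((toFibre IY ID C q).app U c) = (etaD ID (C.K.cycles q)).app U c :=
  congrArg (fun φ : C.K.cycles q ⟶ _ => φ.app U c) (pullback.lift_fst _ _ _)

theorem snd_toFibre_app (U : X.Opens) (c : Γ(C.K.cycles q, U)) :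
    (sndP IY ID C q).app U ((toFibre IY ID C q).app U c) = (C.K.homologyπ q).app U c :=
  congrArg (fun φ : C.K.cycles q ⟶ _ => φ.app U c) (pullback.lift_snd _ _ _)

/-- The target of the comparison. -/
abbrev target : X.Modules := CohB1.tensorMod (fibreProd IY ID C q) (CohB1.tensorPow (ClSub.idealMod ID) q)

include hY in
/-- The homology of the twisted Koszul complex. -/
theorem nonempty_homology_iso (hD : BlowUp.IsEffCartierIdeal ID)
    (hreg : ∀ (U : X.affineOpens) (x : Γ(X, U.1)), x ∈ nonZeroDivisors Γ(X, U.1) → ID.ideal U = Ideal.span {x} →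
      IsSMulRegular Γ(C.K.homology q, U.1) x) :
    Nonempty (C'.K.homology q ≅ target IY ID C q) := by
  classical
  have hB := isBasis_good IY ID hY hD
  have hY' : ∀ i, BlowUp.IsEffCartierIdeal (IY i * ID) := fun i => IdealSh.EffCartier.mul (hY i) hD
  have hqC : ∀ p, (C.K.X p).IsQuasicoherent := isQuasicoherent_cxTerm IY hY C
  have hqC' : ∀ p, (C'.K.X p).IsQuasicoherent := isQuasicoherent_cxTerm _ hY' C'
  haveI := isQuasicoherent_cycles hqC q
  haveI := isQuasicoherent_homology hqC q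
  let U' : good IY ID → X.affineOpens := fun U => ⟨U.1, U.2.choose⟩
  have hgen : ∀ U : good IY ID, ∃ g ∈ nonZeroDivisors Γ(X, (U' U).1), ID.ideal (U' U) = Ideal.span {g} :=
    fun U => U.2.choose_spec.1
  have hfs : ∀ U : good IY ID, ∀ i, ∃ f ∈ nonZeroDivisors Γ(X, (U' U).1), (IY i).ideal (U' U) = Ideal.span {f} :=
    fun U => U.2.choose_spec.2
  choose G hG hGJ using hgen
  choose Θ hΘ using fun U => exists_thetaCycles IY ID C C' q (hG U) (hGJ U) (hfs U)
  let ℓ : ∀ U : good IY ID, Γ(C'.K.cycles q, (U : X.Opens)) →ₗ[Γ(X, (U : X.Opens))] Γ(target IY ID C q, (U : X.Opens)) :=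
    fun U => ((tmulLin (fibreProd IY ID C q) (CohB1.tensorPow (ClSub.idealMod ID) q) (U' U).1
      (genPow ID q (hGJ U))).comp (appLin (toFibre IY ID C q) (U' U).1)).comp (Θ U).symm.toLinearMap
  have indep : ∀ (U : good IY ID) (g' : Γ(X, (U' U).1)) (hg' : g' ∈ nonZeroDivisors Γ(X, (U' U).1))
      (hJ' : ID.ideal (U' U) = Ideal.span {g'}) (z' : Γ(C'.K.cycles q, (U' U).1)) (c : Γ(C.K.cycles q, (U' U).1)),
      (C'.K.iCycles q).app (U' U).1 z' = theta IY ID hg' hJ' C C' q ((C.K.iCycles q).app (U' U).1 c) →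
      ℓ U z' = tmulLin (fibreProd IY ID C q) _ (U' U).1 (genPow ID q hJ') ((toFibre IY ID C q).app (U' U).1 c) := by
    intro U g' hg' hJ' z' c hz'
    obtain ⟨u, hu⟩ : ∃ u, u * G U = g' := Ideal.mem_span_singleton'.mp (hGJ U ▸ hJ' ▸ Ideal.subset_span rfl)
    have e : (Θ U).symm z' = u ^ q • c := by
      rw [LinearEquiv.symm_apply_eq]
      refine iCycles_app_injective q (U' U).1 ?_
      rw [hz', hΘ, Scheme.Modules.Hom.app_smul, theta_mul IY ID (hG U) (hGJ U) C C' hg' hJ' hu.symm]
    show tmulLin _ _ (U' U).1 (genPow ID q (hGJ U)) (appLin (toFibre IY ID C q) (U' U).1 ((Θ U).symm z')) = _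
    rw [e, genPow_mul ID q (hGJ U) hJ' hu.symm, map_smul]
    exact (tmul_smul_right _ _ _ _ _ _).symm
  have nat : ∀ (U V : good IY ID) (h : (V : X.Opens) ≤ (U : X.Opens)) (z' : Γ(C'.K.cycles q, (U : X.Opens))),
      QCoh.res _ h (ℓ U z') = ℓ V (QCoh.res _ h z') := by
    intro U V h z'
    have hle : (U' V).1 ≤ (U' U).1 := h
    obtain ⟨c, rfl⟩ := (Θ U).surjective z'
    have hgV := IdealSh.EffCartier.map_res_mem_nonZeroDivisors (U := U' U) (V := U' V) hle (hG U)
    have hJV := IdealSh.EffCartier.restrict_eq (U := U' U) (V := U' V) hle (hGJ U)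
    have hz : (C'.K.iCycles q).app (U' V).1 (QCoh.res _ hle (Θ U c)) =
        theta IY ID hgV hJV C C' q ((C.K.iCycles q).app (U' V).1 (QCoh.res _ hle c)) := by
      rw [QCoh.app_res, hΘ, res_theta IY ID (hG U) (hGJ U) C C' hle hgV hJV, QCoh.app_res]
    refine Eq.trans ?_ (indep V _ hgV hJV _ _ hz).symm
    show QCoh.res _ hle (tmulLin (fibreProd IY ID C q) _ (U' U).1 (genPow ID q (hGJ U))
      (appLin (toFibre IY ID C q) (U' U).1 ((Θ U).symm (Θ U c)))) = _
    rw [LinearEquiv.symm_apply_apply]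
    refine (tmul_res _ _ hle _ _).trans ?_
    rw [QCoh.app_res]
    exact congrArg (SecTwist.tmul _ _ (U' V).1 _) (res_genPow ID q hle (hGJ U) hJV)
  obtain ⟨φ, hφ⟩ := exists_hom_of_basis hB ℓ nat
  have hbnd : ∀ (U : good IY ID) (v : Γ(C.K.X ((ComplexShape.down ℕ).prev q), (U' U).1)),
      (C'.K.toCycles ((ComplexShape.down ℕ).prev q) q).app (U' U).1
          (theta IY ID (hG U) (hGJ U) C C' _ v) =
        Θ U (G U • (C.K.toCycles ((ComplexShape.down ℕ).prev q) q).app (U' U).1 v) := by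
    intro U v
    refine iCycles_app_injective q (U' U).1 ?_
    rw [iCycles_toCycles_app, d_theta, hΘ, Scheme.Modules.Hom.app_smul, map_smul, iCycles_toCycles_app]
  have hzero : C'.K.toCycles ((ComplexShape.down ℕ).prev q) q ≫ φ = 0 := by
    refine hom_ext_basis hB fun U hU v' => ?_
    show φ.app (U' ⟨U, hU⟩).1 ((C'.K.toCycles _ q).app (U' ⟨U, hU⟩).1 v') = 0
    obtain ⟨v, rfl⟩ := (theta IY ID (hG ⟨U, hU⟩) (hGJ ⟨U, hU⟩) C C' _).surjective v'
    rw [hbnd ⟨U, hU⟩ v]
    refine (hφ ⟨U, hU⟩ _).trans ?_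
    show tmulLin _ _ (U' ⟨U, hU⟩).1 _ (appLin (toFibre IY ID C q) _ ((Θ ⟨U, hU⟩).symm (Θ ⟨U, hU⟩ _))) = 0
    rw [LinearEquiv.symm_apply_apply]
    refine (congrArg (tmulLin _ _ _ _) (pullback_app_ext _ _ _ ?_ ?_)).trans (map_zero _)
    · rw [map_zero]
      refine (fst_toFibre_app IY ID C q _ _).trans ?_
      exact (unit_app_eq_zero_iff ID _ (U' ⟨U, hU⟩) (hGJ ⟨U, hU⟩) _).mpr ⟨_, rfl⟩
    · rw [map_zero]
      refine (snd_toFibre_app IY ID C q _ _).trans ?_
      rw [Scheme.Modules.Hom.app_smul, homologyπ_toCycles_app, smul_zero]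
  let hcok := C'.K.homologyIsCokernel ((ComplexShape.down ℕ).prev q) q rfl
  let ψ : C'.K.homology q ⟶ target IY ID C q := hcok.desc (CokernelCofork.ofπ φ hzero)
  have hψ : C'.K.homologyπ q ≫ ψ = φ := hcok.fac (CokernelCofork.ofπ φ hzero) WalkingParallelPair.one
  suffices IsIso ψ from ⟨asIso ψ⟩
  refine isIso_of_basis hB ψ fun U hU => ?_
  let W : good IY ID := ⟨U, hU⟩
  have hval : ∀ c, ψ.app U ((C'.K.homologyπ q).app U (Θ W c)) =
      tmulLin _ _ (U' W).1 (genPow ID q (hGJ W)) ((toFibre IY ID C q).app (U' W).1 c) := by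
    intro c
    refine (congrArg (fun f : C'.K.cycles q ⟶ target IY ID C q => f.app U (Θ W c)) hψ).trans ((hφ W _).trans ?_)
    show tmulLin _ _ (U' W).1 _ (appLin (toFibre IY ID C q) _ ((Θ W).symm (Θ W c))) = _
    rw [LinearEquiv.symm_apply_apply]
    rfl
  have htb := tmulLin_bijective (M := fibreProd IY ID C q) (tprod_isFrame (isFrame_genSect ID (hG W) (hGJ W)) q)
  constructor
  · rw [injective_iff_map_eq_zero]
    intro y hy
    obtain ⟨c', rfl⟩ := homologyπ_app_surjective hqC' q (U' W).2 y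
    obtain ⟨c, rfl⟩ := (Θ W).surjective c'
    rw [hval] at hy
    have h0 : (toFibre IY ID C q).app (U' W).1 c = 0 := htb.1 (hy.trans (map_zero _).symm)
    have hη := fst_toFibre_app IY ID C q (U' W).1 c
    rw [h0, map_zero] at hη
    have hπ := snd_toFibre_app IY ID C q (U' W).1 c
    rw [h0, map_zero] at hπ
    obtain ⟨w, rfl⟩ := (unit_app_eq_zero_iff ID _ (U' W) (hGJ W) c).mp hη.symm
    rw [Scheme.Modules.Hom.app_smul] at hπ
    obtain ⟨v, rfl⟩ := exists_toCycles_eq hqC ((ComplexShape.down ℕ).prev q) q rfl (U' W).2 w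
      (hreg (U' W) (G W) (hG W) (hGJ W) (hπ.symm.trans (smul_zero _).symm))
    rw [← hbnd W v]
    exact homologyπ_toCycles_app _ q _ _
  · intro y
    obtain ⟨p, rfl⟩ := htb.2 y
    obtain ⟨z₁, hz₁⟩ : ∃ z₁ : Γ(C.K.cycles q, (U' W).1), (etaD ID (C.K.cycles q)).app (U' W).1 z₁ = (fstP IY ID C q).app (U' W).1 p :=
      unit_app_surjective ID (C.K.cycles q) (U' W) _
    have hh : (etaD ID (C.K.homology q)).app (U' W).1
        ((C.K.homologyπ q).app (U' W).1 z₁ - (sndP IY ID C q).app (U' W).1 p) = 0 := by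
      rw [map_sub, sub_eq_zero]
      refine (congrArg (fun f : C.K.cycles q ⟶ _ => f.app (U' W).1 z₁)
        ((Scheme.Modules.pullbackPushforwardAdjunction ID.subschemeι).unit.naturality (C.K.homologyπ q))).trans ?_
      refine (congrArg (Scheme.Modules.Hom.app ((Scheme.Modules.pullback ID.subschemeι ⋙
        Scheme.Modules.pushforward ID.subschemeι).map (C.K.homologyπ q)) (U' W).1) hz₁).trans ?_
      exact congrArg (fun f : fibreProd IY ID C q ⟶ _ => f.app (U' W).1 p) pullback.condition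
    obtain ⟨h', hh'⟩ := (unit_app_eq_zero_iff ID _ (U' W) (hGJ W) _).mp hh
    obtain ⟨w, rfl⟩ := homologyπ_app_surjective hqC q (U' W).2 h'
    refine ⟨(C'.K.homologyπ q).app U (Θ W (z₁ - G W • w)), (hval _).trans (congrArg _ (pullback_app_ext _ _ _ ?_ ?_))⟩
    · refine (fst_toFibre_app IY ID C q _ _).trans ?_
      rw [map_sub, hz₁, show (etaD ID (C.K.cycles q)).app (U' W).1 (G W • w) = 0 from
        (unit_app_eq_zero_iff ID _ (U' W) (hGJ W) (G W • w)).mpr ⟨w, rfl⟩, sub_zero]
    · refine (snd_toFibre_app IY ID C q _ _).trans ?_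
      rw [map_sub, Scheme.Modules.Hom.app_smul, ← hh']
      exact sub_sub_cancel _ _

end Groth.Agent.KoszSh77
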