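import Groth.Agent.KoszSh77.LCIReg
import Groth.Agent.KoszSh77.Twist
import Groth.Agent.KoszSh77.Copies
import Groth.Prelude.Def_FlatMod2

/-!
# Cycles of the Koszul complex of copies of a divisor
-/

set_option autoImplicit false
set_option backward.isDefEq.respectTransparency false
set_option backward.isDefEq.respectTransparency.types false
set_option linter.style.haveILetI false
set_option maxHeartbeats 400000

universe u

open CategoryTheory CategoryTheory.Limits AlgebraicGeometry TopologicalSpace Opposite exteriorPower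
open Groth.Agent.KoszTwLib Groth.Agent.LFFrame

noncomputable section

namespace Groth.Agent.KoszSh77

variable {X : Scheme.{u}}

/-- Exterior powers of maps, inside the exterior algebras. -/
theorem coe_map {R M N : Type*} [CommRing R] [AddCommGroup M] [Module R M] [AddCommGroup N] [Module R N]
    (f : M →ₗ[R] N) (p : ℕ) (w : ↥(⋀[R]^p M)) :
    (exteriorPower.map p f w : ExteriorAlgebra R N) = ExteriorAlgebra.map f (w : ExteriorAlgebra R M) := by
  have h : (Submodule.subtype _).comp (exteriorPower.map p f) =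
      (ExteriorAlgebra.map f).toLinearMap.comp (Submodule.subtype _) := by
    refine exteriorPower.linearMap_ext ?_
    ext e
    simp [exteriorPower.ιMulti_apply_coe, ExteriorAlgebra.map_apply_ιMulti]
  exact LinearMap.congr_fun h w

/-- `con` of the class of a cycle vanishes. -/
theorem con_loc_iCycles {E : X.Modules} {s : E ⟶ Coh.structureModule X} (C : KoszSh.Cx E s) (q : ℕ) (W : X.affineOpens)
    (c : Γ(C.K.cycles q, W.1)) :
    con (KoszSh.secForm s W.1) (C.loc q W ((C.K.iCycles q).app W.1 c) : ExteriorAlgebra Γ(X, W.1) Γ(E, W.1)) = 0 := by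
  rcases q with _ | p
  · have hm : (C.loc 0 W ((C.K.iCycles 0).app W.1 c) : ExteriorAlgebra Γ(X, W.1) Γ(E, W.1)) ∈
        (⋀[Γ(X, W.1)]^0 Γ(E, W.1) : Submodule Γ(X, W.1) (ExteriorAlgebra Γ(X, W.1) Γ(E, W.1))) :=
      (C.loc 0 W ((C.K.iCycles 0).app W.1 c)).2
    change _ ∈ LinearMap.range (ExteriorAlgebra.ι Γ(X, W.1) (M := Γ(E, W.1))) ^ 0 at hm
    rw [pow_zero, Submodule.mem_one] at hm
    obtain ⟨r, hr⟩ := hm
    rw [← hr, Algebra.algebraMap_eq_smul_one, map_smul, con_one, smul_zero]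
  · rw [← coe_loc_d, d_iCycles_app, map_zero]
    rfl

theorem exists_cycle_of_con {E : X.Modules} {s : E ⟶ Coh.structureModule X} (C : KoszSh.Cx E s) (q : ℕ) (W : X.affineOpens)
    (z : Γ(C.K.X q, W.1))
    (hz : con (KoszSh.secForm s W.1) (C.loc q W z : ExteriorAlgebra Γ(X, W.1) Γ(E, W.1)) = 0) :
    ∃ c : Γ(C.K.cycles q, W.1), (C.K.iCycles q).app W.1 c = z := by
  rcases q with _ | p
  · refine exists_cycle 0 0 ChainComplex.next_nat_zero W.1 z ?_
    rw [C.K.shape 0 0 (by simp)]
    rfl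
  · refine exists_cycle (p + 1) p (by simp) W.1 z ((C.loc p W).injective (Subtype.ext ?_))
    rw [coe_loc_d, hz, map_zero]
    rfl

/-- Sections of `O`, as functions. -/
def fnEquiv (U : X.Opens) : Γ(Coh.structureModule X, U) ≃ₗ[Γ(X, U)] Γ(X, U) where
  toFun := OmegaSh.fnSect X U
  map_add' := map_add _
  map_smul' _ _ := rfl
  invFun := OmegaSh.strSect X U
  left_inv _ := rfl
  right_inv _ := rfl

/-- Coordinates of sections of a free module. -/
def coords (m : ℕ) (U : X.Opens) : Γ(FlatMod.freeMod X m, U) ≃ₗ[Γ(X, U)] (Fin m → Γ(X, U)) :=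
  (sectPi _ U).trans (LinearEquiv.piCongrRight fun _ => fnEquiv U)

theorem res_coords (m : ℕ) {U V : X.Opens} (h : V ≤ U) (v : Γ(FlatMod.freeMod X m, U)) (j : Fin m) :
    coords m V (QCoh.res _ h v) j = QCoh.rres h (coords m U v j) :=
  (congrArg (OmegaSh.fnSect X V) (res_sectPi (fun _ : Fin m => Coh.structureModule X) h v j)).symm

variable (n : ℕ) (I : X.IdealSheafData)

theorem toSpan_genSect_bijective {U : X.affineOpens} {x : Γ(X, U.1)} (hx : x ∈ nonZeroDivisors Γ(X, U.1))
    (hI : I.ideal U = Ideal.span {x}) :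
    Function.Bijective (LinearMap.toSpanSingleton Γ(X, U.1) Γ(ClSub.idealMod I, U.1) (genSect I hI)) := by
  have h2 := smul_frame_bijective (isFrame_genSect I hx hI) (le_refl U.1)
  simp only [KoszTwLib.res, res_rfl] at h2
  exact h2

variable {U : X.affineOpens} {x : Γ(X, U.1)} (hx : x ∈ nonZeroDivisors Γ(X, U.1)) (hI : I.ideal U = Ideal.span {x})

/-- The frame of `n` copies of the ideal. -/
def copiesEquiv : (Fin n → Γ(X, U.1)) ≃ₗ[Γ(X, U.1)] Γ(sumIdeal (fun _ : Fin n => I), U.1) :=
  (LinearEquiv.piCongrRight fun _ => LinearEquiv.ofBijective _ (toSpan_genSect_bijective I hx hI)).trans (sectPi _ U.1).symm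

theorem sectPi_copiesEquiv (v : Fin n → Γ(X, U.1)) (i : Fin n) :
    sectPi _ U.1 (copiesEquiv n I hx hI v) i = v i • genSect I hI := by
  simp [copiesEquiv]

theorem secForm_copiesEquiv :
    (KoszSh.secForm (sumι fun _ : Fin n => I) U.1).comp (copiesEquiv n I hx hI).toLinearMap =
      x • sumForm Γ(X, U.1) n := by
  refine LinearMap.ext fun v => ?_
  rw [LinearMap.comp_apply, LinearMap.smul_apply, sumForm_apply, secForm_desc, Finset.smul_sum]
  refine Finset.sum_congr rfl fun i _ => ?_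
  show OmegaSh.idealSect I U.1 (sectPi _ U.1 (copiesEquiv n I hx hI v) i) = _
  rw [sectPi_copiesEquiv, Omega.Stalks.idealSect_smul, idealSect_genSect, smul_eq_mul, mul_comm]

/-- `O^{n-1} → I^n` onto the kernel. -/
def kerMap : Γ(FlatMod.freeMod X (n - 1), U.1) →ₗ[Γ(X, U.1)] Γ(sumIdeal (fun _ : Fin n => I), U.1) :=
  ((copiesEquiv n I hx hI).toLinearMap.comp (alpha Γ(X, U.1) n)).comp (coords (n - 1) U.1).toLinearMap

theorem sectPi_kerMap (v : Γ(FlatMod.freeMod X (n - 1), U.1)) (i : Fin n) :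
    sectPi _ U.1 (kerMap n I hx hI v) i = alpha Γ(X, U.1) n (coords (n - 1) U.1 v) i • genSect I hI :=
  sectPi_copiesEquiv n I hx hI _ i

theorem kerMap_mul {x' u : Γ(X, U.1)} (hx' : x' ∈ nonZeroDivisors Γ(X, U.1)) (hI' : I.ideal U = Ideal.span {x'})
    (hu : x' = u * x) : kerMap n I hx' hI' = u • kerMap n I hx hI := by
  refine LinearMap.ext fun v => (sectPi _ U.1).injective (funext fun i => ?_)
  have h1 : genSect I hI' = u • genSect I hI := Omega.Stalks.idealSect_injective _ _ (by
    rw [Omega.Stalks.idealSect_smul, idealSect_genSect, idealSect_genSect, hu])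
  rw [sectPi_kerMap, LinearMap.smul_apply, map_smul, Pi.smul_apply, sectPi_kerMap, h1, smul_comm]

theorem map_alpha {R S : Type*} [CommRing R] [CommRing S] (f : R →+* S) : ∀ (n : ℕ) (v : Fin (n - 1) → R) (i : Fin n),
    f (alpha R n v i) = alpha S n (fun j => f (v j)) i
  | 0, v, i => i.elim0
  | m + 1, v, i => by
    refine Fin.cases ?_ (fun j => ?_) i
    · simp [alpha, sumForm_apply]
    · simp [alpha]

theorem res_kerMap {V : X.affineOpens} (h : V.1 ≤ U.1) (hxV : X.presheaf.map (homOfLE h).op x ∈ nonZeroDivisors Γ(X, V.1))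
    (hIV : I.ideal V = Ideal.span {X.presheaf.map (homOfLE h).op x}) (v : Γ(FlatMod.freeMod X (n - 1), U.1)) :
    QCoh.res _ h (kerMap n I hx hI v) = kerMap n I hxV hIV (QCoh.res _ h v) := by
  refine (sectPi _ V.1).injective (funext fun i => ?_)
  rw [← res_sectPi, sectPi_kerMap, sectPi_kerMap, QCoh.res_smul]
  refine congrArg₂ (· • ·) ?_ (Omega.Stalks.idealSect_injective _ _ ?_)
  · show (X.presheaf.map (homOfLE h).op).hom _ = _
    rw [map_alpha]
    exact congrArg (fun w => alpha Γ(X, V.1) n w i) (funext fun j => (res_coords (n - 1) h v j).symm)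
  · erw [Omega.Stalks.idealSect_map]
    rw [idealSect_genSect, idealSect_genSect]

variable (C : KoszSh.Cx (sumIdeal fun _ : Fin n => I) (sumι fun _ : Fin n => I)) (q : ℕ)
  {L : X.Modules} (e : ∀ U : X.affineOpens, Γ(L, U.1) ≃ₗ[Γ(X, U.1)] ↥(⋀[Γ(X, U.1)]^q Γ(FlatMod.freeMod X (n - 1), U.1)))

/-- The parametrisation of the cycles, in `K_q`. -/
def xi : Γ(L, U.1) →ₗ[Γ(X, U.1)] Γ(C.K.X q, U.1) :=
  (C.loc q U).symm.toLinearMap.comp ((exteriorPower.map q (kerMap n I hx hI)).comp (e U).toLinearMap)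

theorem coe_loc_xi (l : Γ(L, U.1)) :
    (C.loc q U (xi n I hx hI C q e l) : ExteriorAlgebra Γ(X, U.1) Γ(sumIdeal (fun _ : Fin n => I), U.1)) =
      ExteriorAlgebra.map ((copiesEquiv n I hx hI).toLinearMap.comp (alpha Γ(X, U.1) n))
        (ExteriorAlgebra.map (coords (n - 1) U.1).toLinearMap (e U l : ExteriorAlgebra Γ(X, U.1) _)) := by
  rw [← AlgHom.comp_apply, ExteriorAlgebra.map_comp_map, ← coe_map]
  exact congrArg Subtype.val (LinearEquiv.apply_symm_apply _ _)

theorem exists_zeta :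
    ∃ ζ : Γ(L, U.1) ≃ₗ[Γ(X, U.1)] Γ(C.K.cycles q, U.1), ∀ l, (C.K.iCycles q).app U.1 (ζ l) = xi n I hx hI C q e l := by
  have hB := secForm_copiesEquiv n I hx hI
  have h1 : ∀ l, ∃ c, (C.K.iCycles q).app U.1 c = xi n I hx hI C q e l := fun l => by
    refine exists_cycle_of_con C q U _ ?_
    rw [coe_loc_xi]
    exact con_map_alpha (copiesEquiv n I hx hI) hB _
  choose ζ hζ using h1
  have hinj : Function.Injective (xi n I hx hI C q e) := by
    show Function.Injective ((C.loc q U).symm ∘ (exteriorPower.map q (kerMap n I hx hI) ∘ e U))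
    refine (C.loc q U).symm.injective.comp (Function.Injective.comp ?_ (e U).injective)
    refine exteriorPower.map_injective
      (g := (coords (n - 1) U.1).symm.toLinearMap.comp ((beta Γ(X, U.1) n).comp (copiesEquiv n I hx hI).symm.toLinearMap)) ?_
    refine LinearMap.ext fun v => ?_
    simp only [kerMap, LinearMap.comp_apply, LinearEquiv.coe_coe, LinearEquiv.symm_apply_apply]
    rw [show beta Γ(X, U.1) n (alpha Γ(X, U.1) n (coords (n - 1) U.1 v)) = coords (n - 1) U.1 v from
      LinearMap.congr_fun (beta_alpha n) _, LinearEquiv.symm_apply_apply]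
    rfl
  refine ⟨LinearEquiv.ofBijective
    { toFun := ζ
      map_add' := fun a b => iCycles_app_injective q U.1 (by rw [map_add, hζ, hζ, hζ, map_add])
      map_smul' := fun r a => iCycles_app_injective q U.1 (by
        rw [RingHom.id_apply, Scheme.Modules.Hom.app_smul, hζ, hζ, map_smul]) }
    ⟨fun a b hab => hinj ((hζ a).symm.trans ((congrArg _ hab).trans (hζ b))), fun c => ?_⟩, hζ⟩
  obtain ⟨w, hw, hwc⟩ := cycle_eq_map (copiesEquiv n I hx hI) hB hx (C.loc q U ((C.K.iCycles q).app U.1 c)).2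
    (con_loc_iCycles C q U c)
  refine ⟨(e U).symm ⟨_, map_mem_exteriorPower (coords (n - 1) U.1).symm.toLinearMap q hw⟩,
    iCycles_app_injective q U.1 ((C.loc q U).injective (Subtype.ext ?_))⟩
  show Subtype.val (C.loc q U ((C.K.iCycles q).app U.1 (ζ _))) = _
  rw [hζ, coe_loc_xi, LinearEquiv.apply_symm_apply, ← hwc]
  congr 1
  show ExteriorAlgebra.map _ (ExteriorAlgebra.map _ w) = w
  rw [← AlgHom.comp_apply, ExteriorAlgebra.map_comp_map, show (coords (n - 1) U.1).toLinearMap.comp
    (coords (n - 1) U.1).symm.toLinearMap = LinearMap.id from LinearMap.ext fun v => LinearEquiv.apply_symm_apply (coords (n - 1) U.1) v,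
    ExteriorAlgebra.map_id, AlgHom.id_apply]

/-- The parametrisation of the cycles. -/
def zeta : Γ(L, U.1) ≃ₗ[Γ(X, U.1)] Γ(C.K.cycles q, U.1) := (exists_zeta n I hx hI C q e).choose

theorem iCycles_zeta (l : Γ(L, U.1)) : (C.K.iCycles q).app U.1 (zeta n I hx hI C q e l) = xi n I hx hI C q e l :=
  (exists_zeta n I hx hI C q e).choose_spec l

theorem zeta_mul {x' u : Γ(X, U.1)} (hx' : x' ∈ nonZeroDivisors Γ(X, U.1)) (hI' : I.ideal U = Ideal.span {x'})
    (hu : x' = u * x) (l : Γ(L, U.1)) : zeta n I hx' hI' C q e l = u ^ q • zeta n I hx hI C q e l := by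
  refine iCycles_app_injective q U.1 ?_
  rw [Scheme.Modules.Hom.app_smul, iCycles_zeta, iCycles_zeta]
  have h : exteriorPower.map q (kerMap n I hx' hI') = u ^ q • exteriorPower.map q (kerMap n I hx hI) := by
    refine exteriorPower.linearMap_ext ?_
    ext w
    rw [kerMap_mul n I hx hI hx' hI' hu]
    show Subtype.val ((exteriorPower.map q (u • kerMap n I hx hI)) (ιMulti _ q w)) =
      Subtype.val (u ^ q • exteriorPower.map q (kerMap n I hx hI) (ιMulti _ q w))
    rw [map_apply_ιMulti, map_apply_ιMulti,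
      show (u • kerMap n I hx hI) ∘ w = fun j => u • kerMap n I hx hI (w j) from rfl, AlternatingMap.map_smul_univ]
    simp [Function.comp_def]
  show (C.loc q U).symm (exteriorPower.map q (kerMap n I hx' hI') (e U l)) = _
  rw [h, LinearMap.smul_apply, map_smul]
  rfl

theorem res_zeta (he : ∀ (U V : X.affineOpens) (h : V.1 ≤ U.1) (v : Fin q → Γ(FlatMod.freeMod X (n - 1), U.1)),
      QCoh.res L h ((e U).symm (ιMulti _ q v)) = (e V).symm (ιMulti _ q fun j => QCoh.res _ h (v j)))
    {V : X.affineOpens} (h : V.1 ≤ U.1) (hxV : X.presheaf.map (homOfLE h).op x ∈ nonZeroDivisors Γ(X, V.1))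
    (hIV : I.ideal V = Ideal.span {X.presheaf.map (homOfLE h).op x}) (l : Γ(L, U.1)) :
    QCoh.res (C.K.cycles q) h (zeta n I hx hI C q e l) = zeta n I hxV hIV C q e (QCoh.res L h l) := by
  refine iCycles_app_injective q V.1 ?_
  rw [QCoh.app_res, iCycles_zeta, iCycles_zeta]
  obtain ⟨y, rfl⟩ := (e U).symm.surjective l
  refine Submodule.span_induction (p := fun y _ => QCoh.res (C.K.X q) h (xi n I hx hI C q e ((e U).symm y)) =
    xi n I hxV hIV C q e (QCoh.res L h ((e U).symm y))) ?_ ?_ ?_ ?_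
    (show y ∈ Submodule.span Γ(X, U.1) (Set.range (ιMulti Γ(X, U.1) q)) by rw [ιMulti_span]; trivial)
  · rintro _ ⟨v, rfl⟩
    rw [he U V h v]
    show QCoh.res _ h ((C.loc q U).symm (exteriorPower.map q _ (e U ((e U).symm _)))) =
      (C.loc q V).symm (exteriorPower.map q _ (e V ((e V).symm _)))
    rw [LinearEquiv.apply_symm_apply, LinearEquiv.apply_symm_apply, map_apply_ιMulti, map_apply_ιMulti]
    refine (C.loc_res q U V h _).trans ?_
    exact congrArg (fun z => (C.loc q V).symm (ιMulti _ q z)) (funext fun j => res_kerMap n I hx hI h hxV hIV (v j))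
  · simp
  · intro a b _ _ ha hb
    simp only [map_add, ha, hb]
  · intro r a _ ha
    simp only [map_smul, QCoh.res_smul, ha]

/-- For `n ≥ 1` boundaries are `x` times cycles. -/
theorem homologyπ_eq_zero_iff (hn : 1 ≤ n) (hqC : ∀ p, (C.K.X p).IsQuasicoherent) (hx : x ∈ nonZeroDivisors Γ(X, U.1))
    (hI : I.ideal U = Ideal.span {x}) (c : Γ(C.K.cycles q, U.1)) :
    (C.K.homologyπ q).app U.1 c = 0 ↔ ∃ c', c = x • c' := by
  have hB := secForm_copiesEquiv n I hx hI
  constructor
  · intro h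
    obtain ⟨v, rfl⟩ := exists_toCycles_eq hqC (q + 1) q (by simp) U.2 c h
    obtain ⟨z, hz, hz0, hzv⟩ := con_eq_smul_cycle (copiesEquiv n I hx hI) hB (C.loc (q + 1) U v).2
    obtain ⟨c', hc'⟩ := exists_cycle_of_con C q U ((C.loc q U).symm ⟨z, hz⟩) (by rw [LinearEquiv.apply_symm_apply]; exact hz0)
    refine ⟨c', iCycles_app_injective q U.1 ((C.loc q U).injective (Subtype.ext ?_))⟩
    rw [iCycles_toCycles_app, coe_loc_d, hzv, Scheme.Modules.Hom.app_smul, hc', map_smul, LinearEquiv.apply_symm_apply]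
    rfl
  · rintro ⟨c', rfl⟩
    obtain ⟨w, hw, hwz⟩ := smul_cycle_eq_con (copiesEquiv n I hx hI) hB hn hx (C.loc q U ((C.K.iCycles q).app U.1 c')).2
      (con_loc_iCycles C q U c')
    have : x • c' = (C.K.toCycles (q + 1) q).app U.1 ((C.loc (q + 1) U).symm ⟨w, hw⟩) := by
      refine iCycles_app_injective q U.1 ((C.loc q U).injective (Subtype.ext ?_))
      rw [iCycles_toCycles_app, coe_loc_d, LinearEquiv.apply_symm_apply, Scheme.Modules.Hom.app_smul, map_smul]
      exact hwz
    rw [this]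
    exact homologyπ_toCycles_app _ q _ _

end Groth.Agent.KoszSh77
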