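import Groth.Agent.KoszSh77.Divisor
import Groth.Agent.KoszSh77.Charts
import Groth.Agent.ProjTwist.Invertible
import Groth.Agent.AmpleLib.Basic
import Groth.Agent.S2297

/-!
# The cycles and homology of copies of divisors
-/

set_option autoImplicit false
set_option backward.isDefEq.respectTransparency false
set_option backward.isDefEq.respectTransparency.types false
set_option linter.style.haveILetI false
set_option maxHeartbeats 800000

universe u

open CategoryTheory CategoryTheory.Limits AlgebraicGeometry TopologicalSpace Opposite exteriorPower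
open Groth.Agent.KoszTwLib Groth.Agent.LFFrame

noncomputable section

namespace Groth.Agent.KoszSh77

variable {X : Scheme.{u}} (n : ℕ) (I J : X.IdealSheafData)

/-- Equations of `I` on `U`. -/
abbrev Eqn (U : X.affineOpens) : Type u :=
  {x : Γ(X, U.1) // x ∈ nonZeroDivisors Γ(X, U.1) ∧ I.ideal U = Ideal.span {x}}

/-- The equation restricted. -/
def Eqn.res {U V : X.affineOpens} (h : V.1 ≤ U.1) (p : Eqn I U) : Eqn I V :=
  ⟨X.presheaf.map (homOfLE h).op p.1, IdealSh.EffCartier.map_res_mem_nonZeroDivisors h p.2.1,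
    IdealSh.EffCartier.restrict_eq h p.2.2⟩

theorem Eqn.exists_mul {U : X.affineOpens} (p p' : Eqn I U) : ∃ u, p'.1 = u * p.1 := by
  obtain ⟨u, hu⟩ := Ideal.mem_span_singleton'.mp (show p'.1 ∈ Ideal.span {p.1} by
    have h : Ideal.span {p'.1} = Ideal.span {p.1} := p'.2.2.symm.trans p.2.2
    exact h ▸ Ideal.subset_span rfl)
  exact ⟨u, hu.symm⟩

theorem tmulLin_smul (M N : X.Modules) (V : X.Opens) (c : Γ(X, V)) (m : Γ(N, V)) :
    tmulLin M N V (c • m) = c • tmulLin M N V m :=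
  LinearMap.ext fun z => (tmul_smul_right M N V c z m).trans (map_smul (tmulLin M N V m) c z)

theorem isFrame_genPow (q : ℕ) {U : X.affineOpens} (p : Eqn I U) :
    IsFrame (CohB1.tensorPow (ClSub.idealMod I) q) U.1 ![genPow I q p.2.2] :=
  tprod_isFrame (isFrame_genSect I p.2.1 p.2.2) q

theorem isQuasicoherent_tensorPow (hI : BlowUp.IsEffCartierIdeal I) (q : ℕ) :
    (CohB1.tensorPow (ClSub.idealMod I) q).IsQuasicoherent :=
  ProjTwist.isQCoh_of_isInvertible
    (AmpleLib.isInvertible_tensorPow (IdealSh.IdealMod.isInvertible_of_isEffCartierIdeal I hI) q)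

variable (C : KoszSh.Cx (sumIdeal fun _ : Fin n => I) (sumι fun _ : Fin n => I))
  (CD : KoszSh.Cx (sumIdeal fun _ : Fin n => J) (sumι fun _ : Fin n => J))
  (q : ℕ) {L : X.Modules} (hL : ExtPow.IsExtPow q (FlatMod.freeMod X (n - 1)) L)

include hL in
theorem nonempty_cycles_iso (hI : BlowUp.IsEffCartierIdeal I) :
    Nonempty (C.K.cycles q ≅ CohB1.tensorMod L (CohB1.tensorPow (ClSub.idealMod I) q)) := by
  obtain ⟨e, he⟩ := hL
  have hB := isBasis_good (fun _ : Fin 1 => I) ⊤ (fun _ => hI) IdealSh.EffCartier.top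
  let W : good (fun _ : Fin 1 => I) ⊤ → X.affineOpens := fun U => ⟨U.1, U.2.choose⟩
  haveI : ∀ U, Nonempty (Eqn I (W U)) := fun U => by
    obtain ⟨x, hx, hI'⟩ := U.2.choose_spec.2 0
    exact ⟨⟨x, hx, hI'⟩⟩
  refine nonempty_iso_of_charts hB L _ _ (fun U => Eqn I (W U))
    (fun U p => (zeta n I p.2.1 p.2.2 C q e).toLinearMap)
    (fun U p => tmulLin L _ (W U).1 (genPow I q p.2.2))
    (fun U p => LinearEquiv.surjective _) (fun U p => (tmulLin_bijective (isFrame_genPow I q p)).2)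
    (fun U p l => ?_) (fun U p p' => ?_) (fun U V h p => ?_)
  · exact (map_eq_zero_iff _ (LinearEquiv.injective _)).trans
      (map_eq_zero_iff _ (tmulLin_bijective (M := L) (isFrame_genPow I q p)).1).symm
  · obtain ⟨u, hu⟩ := Eqn.exists_mul I p p'
    refine ⟨u ^ q, LinearMap.ext fun l => zeta_mul n I p.2.1 p.2.2 C q e p'.2.1 p'.2.2 hu l, ?_⟩
    rw [genPow_mul I q p.2.2 p'.2.2 hu]
    exact tmulLin_smul _ _ _ _ _
  · have hle : (W V).1 ≤ (W U).1 := h
    refine ⟨Eqn.res I hle p, fun l => ⟨res_zeta n I p.2.1 p.2.2 C q e he hle _ _ l, ?_⟩⟩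
    refine (tmul_res _ _ hle _ _).trans ?_
    exact congrArg (SecTwist.tmul _ _ (W V).1 _) (res_genPow I q hle p.2.2 (Eqn.res I hle p).2.2)

include hL in
theorem nonempty_restrict_iso (hI : BlowUp.IsEffCartierIdeal I) (hJ : BlowUp.IsEffCartierIdeal J) (hn : 1 ≤ n) :
    Nonempty ((Scheme.Modules.pullback J.subschemeι ⋙ Scheme.Modules.pushforward J.subschemeι).obj
        (CohB1.tensorMod (C.K.cycles q) (CohB1.tensorPow (ClSub.idealMod J) q)) ≅
      CohB1.tensorMod (CD.K.homology q) (CohB1.tensorPow (ClSub.idealMod I) q)) := by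
  obtain ⟨e, he⟩ := hL
  have hB := isBasis_good (fun _ : Fin 1 => I) J (fun _ => hI) hJ
  have hqC := isQuasicoherent_cxTerm (fun _ : Fin n => I) (fun _ => hI) C
  have hqD := isQuasicoherent_cxTerm (fun _ : Fin n => J) (fun _ => hJ) CD
  haveI hq1 : Coh.IsQCoh (C.K.cycles q) := isQuasicoherent_cycles hqC q
  haveI hq2 : Coh.IsQCoh (CohB1.tensorPow (ClSub.idealMod J) q) := isQuasicoherent_tensorPow J hJ q
  have hsrc : (CohB1.tensorMod (C.K.cycles q) (CohB1.tensorPow (ClSub.idealMod J) q)).IsQuasicoherent :=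
    (Groth.Agent.S2297.result _ _).1
  let W : good (fun _ : Fin 1 => I) J → X.affineOpens := fun U => ⟨U.1, U.2.choose⟩
  haveI : ∀ U, Nonempty (Eqn I (W U) × Eqn J (W U)) := fun U => by
    obtain ⟨x, hx, hI'⟩ := U.2.choose_spec.2 0
    obtain ⟨g, hg, hJ'⟩ := U.2.choose_spec.1
    exact ⟨⟨x, hx, hI'⟩, ⟨g, hg, hJ'⟩⟩
  refine nonempty_iso_of_charts hB L _ _ (fun U => Eqn I (W U) × Eqn J (W U))
    (fun U p => (appLin (etaD J _) (W U).1).comp ((tmulLin (C.K.cycles q) _ (W U).1 (genPow J q p.2.2.2)).comp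
      (zeta n I p.1.2.1 p.1.2.2 C q e).toLinearMap))
    (fun U p => (tmulLin (CD.K.homology q) _ (W U).1 (genPow I q p.1.2.2)).comp ((appLin (CD.K.homologyπ q) (W U).1).comp
      (zeta n J p.2.2.1 p.2.2.2 CD q e).toLinearMap))
    (fun U p => ?_) (fun U p => ?_) (fun U p l => ?_) (fun U p p' => ?_) (fun U V h p => ?_)
  · exact (@unit_app_surjective X J (CohB1.tensorMod (C.K.cycles q) (CohB1.tensorPow (ClSub.idealMod J) q)) hsrc (W U)).comp
      ((tmulLin_bijective (isFrame_genPow J q p.2)).2.comp (LinearEquiv.surjective _))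
  · exact (tmulLin_bijective (isFrame_genPow I q p.1)).2.comp
      ((homologyπ_app_surjective hqD q (W U).2).comp (LinearEquiv.surjective _))
  · have hb := tmulLin_bijective (M := C.K.cycles q) (isFrame_genPow J q p.2)
    have hb' := tmulLin_bijective (M := CD.K.homology q) (isFrame_genPow I q p.1)
    have key : ∀ l : Γ(L, (W U).1), (∃ w, tmulLin (C.K.cycles q) _ (W U).1 (genPow J q p.2.2.2)
        (zeta n I p.1.2.1 p.1.2.2 C q e l) = p.2.1 • w) ↔ ∃ l', l = p.2.1 • l' := by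
      intro l
      constructor
      · rintro ⟨w, hw⟩
        obtain ⟨z, rfl⟩ := hb.2 w
        obtain ⟨l', rfl⟩ := (zeta n I p.1.2.1 p.1.2.2 C q e).surjective z
        rw [← map_smul, ← map_smul] at hw
        exact ⟨l', (zeta n I p.1.2.1 p.1.2.2 C q e).injective (hb.1 hw)⟩
      · rintro ⟨l', rfl⟩
        exact ⟨tmulLin _ _ _ (genPow J q p.2.2.2) (zeta n I p.1.2.1 p.1.2.2 C q e l'), by rw [map_smul, map_smul]⟩
    refine ((@unit_app_eq_zero_iff X J (CohB1.tensorMod (C.K.cycles q) (CohB1.tensorPow (ClSub.idealMod J) q)) hsrc (W U) _ p.2.2.2 _).trans (key l)).trans ?_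
    refine Iff.trans ?_ (map_eq_zero_iff _ hb'.1).symm
    refine Iff.trans ?_ (homologyπ_eq_zero_iff n J CD q hn hqD p.2.2.1 p.2.2.2 _).symm
    constructor
    · rintro ⟨l', rfl⟩
      exact ⟨zeta n J p.2.2.1 p.2.2.2 CD q e l', map_smul _ _ _⟩
    · rintro ⟨c', hc'⟩
      obtain ⟨l', rfl⟩ := (zeta n J p.2.2.1 p.2.2.2 CD q e).surjective c'
      exact ⟨l', (zeta n J p.2.2.1 p.2.2.2 CD q e).injective (hc'.trans (map_smul _ _ _).symm)⟩
  · obtain ⟨u, hu⟩ := Eqn.exists_mul I p.1 p'.1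
    obtain ⟨v, hv⟩ := Eqn.exists_mul J p.2 p'.2
    refine ⟨u ^ q * v ^ q, LinearMap.ext fun l => ?_, LinearMap.ext fun l => ?_⟩
    · simp only [LinearMap.comp_apply, LinearEquiv.coe_coe, LinearMap.smul_apply]
      rw [zeta_mul n I p.1.2.1 p.1.2.2 C q e p'.1.2.1 p'.1.2.2 hu, genPow_mul J q p.2.2.2 p'.2.2.2 hv,
        tmulLin_smul, LinearMap.smul_apply, map_smul, map_smul, map_smul, smul_smul, mul_comm (v ^ q)]
    · simp only [LinearMap.comp_apply, LinearEquiv.coe_coe, LinearMap.smul_apply]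
      rw [zeta_mul n J p.2.2.1 p.2.2.2 CD q e p'.2.2.1 p'.2.2.2 hv, genPow_mul I q p.1.2.2 p'.1.2.2 hu,
        tmulLin_smul, LinearMap.smul_apply, map_smul, map_smul, smul_smul]
  · have hle : (W V).1 ≤ (W U).1 := h
    refine ⟨(Eqn.res I hle p.1, Eqn.res J hle p.2), fun l => ⟨?_, ?_⟩⟩
    · refine (QCoh.app_res (etaD J _) hle _).symm.trans (congrArg ((etaD J _).app (W V).1) ?_)
      refine (tmul_res _ _ hle _ _).trans ?_
      exact congrArg₂ (SecTwist.tmul _ _ (W V).1) (res_zeta n I p.1.2.1 p.1.2.2 C q e he hle _ _ l)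
        (res_genPow J q hle p.2.2.2 (Eqn.res J hle p.2).2.2)
    · refine (tmul_res _ _ hle _ _).trans ?_
      exact congrArg₂ (SecTwist.tmul _ _ (W V).1)
        ((QCoh.app_res (CD.K.homologyπ q) hle _).symm.trans
          (congrArg ((CD.K.homologyπ q).app (W V).1) (res_zeta n J p.2.2.1 p.2.2.2 CD q e he hle _ _ l)))
        (res_genPow I q hle p.1.2.2 (Eqn.res I hle p.1).2.2)

end Groth.Agent.KoszSh77
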