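import Groth.Prelude.Def_FlatMod2
import Groth.Prelude.Def_Omega4
import Groth.Prelude.Def_KoszulSh
import Mathlib.LinearAlgebra.Basis.Defs

/-!
# The standard basis of the global sections of a free module
-/

set_option autoImplicit false
set_option backward.isDefEq.respectTransparency false
set_option backward.isDefEq.respectTransparency.types false

universe u

open CategoryTheory CategoryTheory.Limits AlgebraicGeometry Opposite

noncomputable section

namespace Groth.Agent.KoszSh77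

/-- The global sections of `O^c` have the standard basis. -/
theorem exists_basis_freeMod (Y : Scheme.{u}) (c : ℕ) :
    ∃ b : Module.Basis (Fin c) Γ(Y, (⊤ : Y.Opens)) Γ(FlatMod.freeMod Y c, (⊤ : Y.Opens)),
      ∀ k, b k = (Sigma.ι (fun _ : Fin c => Coh.structureModule Y) k).app ⊤ (OmegaSh.strSect Y ⊤ 1) := by
  classical
  let ι := fun k => Sigma.ι (fun _ : Fin c => Coh.structureModule Y) k
  let π : Fin c → ((∐ fun _ : Fin c => Coh.structureModule Y) ⟶ Coh.structureModule Y) := fun k =>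
    Sigma.desc fun j => if j = k then 𝟙 _ else 0
  have hιπ : ∀ j k, ι j ≫ π k = if j = k then 𝟙 _ else 0 := fun j k => Sigma.ι_desc _ _
  have htot : ∑ k, π k ≫ ι k = 𝟙 _ := by
    refine Sigma.hom_ext _ _ fun j => ?_
    rw [Preadditive.comp_sum, Category.comp_id, Finset.sum_eq_single j]
    · rw [← Category.assoc, hιπ, if_pos rfl, Category.id_comp]
    · intro k _ hk
      rw [← Category.assoc, hιπ, if_neg (Ne.symm hk), zero_comp]
    · intro h
      exact absurd (Finset.mem_univ j) h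
  let e : Γ(FlatMod.freeMod Y c, (⊤ : Y.Opens)) →ₗ[Γ(Y, (⊤ : Y.Opens))] (Fin c → Γ(Y, (⊤ : Y.Opens))) :=
    { toFun := fun m k => OmegaSh.fnSect Y ⊤ ((π k).app ⊤ m)
      map_add' := fun a b => funext fun k => by
        simp only [Pi.add_apply]
        exact congrArg (OmegaSh.fnSect Y ⊤) (map_add ((π k).app ⊤).hom a b)
      map_smul' := fun r a => funext fun k => by
        exact congrArg (OmegaSh.fnSect Y ⊤) (Scheme.Modules.Hom.app_smul (π k) r a) }
  let f : (Fin c → Γ(Y, (⊤ : Y.Opens))) → Γ(FlatMod.freeMod Y c, (⊤ : Y.Opens)) := fun a =>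
    ∑ k, (ι k).app ⊤ (OmegaSh.strSect Y ⊤ (a k))
  have hsum : ∀ {M N : Y.Modules} (g : Fin c → (M ⟶ N)) (m : Γ(M, (⊤ : Y.Opens))),
      (∑ k, g k).app ⊤ m = ∑ k, (g k).app ⊤ m := by
    intro M N g m
    let A : (M ⟶ N) →+ Γ(N, (⊤ : Y.Opens)) :=
      { toFun := fun φ => φ.app ⊤ m, map_zero' := rfl, map_add' := fun _ _ => rfl }
    exact map_sum A g _
  have hfe : ∀ m, f (e m) = m := by
    intro m
    refine Eq.trans ?_ ((hsum (fun k => π k ≫ ι k) m).symm.trans (congrArg (fun φ : FlatMod.freeMod Y c ⟶ FlatMod.freeMod Y c => φ.app ⊤ m) htot))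
    refine Finset.sum_congr rfl fun k _ => ?_
    rfl
  have hef : ∀ a, e (f a) = a := by
    intro a
    funext j
    show OmegaSh.fnSect Y ⊤ ((π j).app ⊤ (∑ k, (ι k).app ⊤ (OmegaSh.strSect Y ⊤ (a k)))) = a j
    rw [map_sum, Finset.sum_eq_single j]
    · rw [← ConcreteCategory.comp_apply, ← Scheme.Modules.Hom.comp_app, hιπ, if_pos rfl]
      rfl
    · intro k _ hk
      rw [← ConcreteCategory.comp_apply, ← Scheme.Modules.Hom.comp_app, hιπ, if_neg hk]
      rfl
    · intro h
      exact absurd (Finset.mem_univ j) h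
  let E := LinearEquiv.ofBijective e ⟨fun a b h => by rw [← hfe a, h, hfe], fun a => ⟨f a, hef a⟩⟩
  refine ⟨Module.Basis.ofEquivFun E, fun k => ?_⟩
  rw [Module.Basis.coe_ofEquivFun, LinearEquiv.symm_apply_eq]
  funext j
  show (Pi.single (M := fun _ => Γ(Y, (⊤ : Y.Opens))) k 1) j = OmegaSh.fnSect Y ⊤ ((π j).app ⊤ ((ι k).app ⊤ (OmegaSh.strSect Y ⊤ 1)))
  rw [← ConcreteCategory.comp_apply, ← Scheme.Modules.Hom.comp_app, hιπ]
  by_cases h : k = j
  · subst h
    rw [if_pos rfl, Pi.single_eq_same]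
    rfl
  · rw [if_neg h, Pi.single_eq_of_ne (Ne.symm h)]
    rfl

end Groth.Agent.KoszSh77
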