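import Groth.Agent.KoszSh77.Contract

/-!
# Koszul homology of a form with lci image has the torsion of the quotient
-/

set_option autoImplicit false

universe u v w

open RingTheory.Sequence

noncomputable section

namespace Groth.Agent.KoszSh77

variable {R : Type u} [CommRing R] {M : Type v} [AddCommGroup M] [Module R M]

theorem con_sub (φ φ' : M →ₗ[R] R) (y : ExteriorAlgebra R M) : con (φ - φ') y = con φ y - con φ' y := by
  unfold con
  rw [map_sub]
  rfl

theorem con_congr {n : ℕ} (b : Fin n → M) (φ φ' : M →ₗ[R] R) (k : ℕ) (h : ∀ j : Fin n, j.val < k → φ (b j) = φ' (b j))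
    (p : ℕ) (y : ExteriorAlgebra R M) (hy : y ∈ S (R := R) b k ^ p) : con φ y = con φ' y := by
  rw [← sub_eq_zero, ← con_sub]
  exact con_eq_zero_of_kill b (φ - φ') k (fun j hj => by rw [LinearMap.sub_apply, h j hj, sub_self]) p y hy

theorem eq_zero_and_eq_zero {n : ℕ} (b : Module.Basis (Fin n) R M) (k : ℕ) (hk : k < n) {a y : ExteriorAlgebra R M}
    {q q' : ℕ} (ha : a ∈ S (R := R) b k ^ q) (hy : y ∈ S (R := R) b k ^ q')
    (h : a + ExteriorAlgebra.ι R (b ⟨k, hk⟩) * y = 0) : a = 0 ∧ y = 0 := by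
  have hψ : ∀ j : Fin n, j.val < k → b.coord ⟨k, hk⟩ (b j) = 0 := fun j hj => by
    rw [Module.Basis.coord_apply, Module.Basis.repr_self, Finsupp.single_eq_of_ne]
    exact fun hh => (Nat.ne_of_lt hj) (congrArg Fin.val hh.symm)
  have h1 := congrArg (con (b.coord ⟨k, hk⟩)) h
  rw [map_add, map_zero, con_eq_zero_of_kill b _ k hψ q a ha, zero_add, con_ι_mul,
    con_eq_zero_of_kill b _ k hψ q' y hy, mul_zero, sub_zero, Module.Basis.coord_apply,
    Module.Basis.repr_self, Finsupp.single_eq_same, one_smul] at h1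
  subst h1
  rw [mul_zero, add_zero] at h
  exact ⟨h, rfl⟩

/-- Images of `S_k` under contraction. -/
theorem con_S_eq {n : ℕ} (b : Fin n → M) (φ : M →ₗ[R] R) (k : ℕ) (r : R) :
    r ∈ Ideal.span (φ '' (b '' {j | j.val < k})) →
      ∃ y ∈ S (R := R) b k, con φ y = algebraMap R _ r := by
  intro hr
  induction hr using Submodule.span_induction with
  | mem z hz =>
    obtain ⟨_, ⟨j, hj, rfl⟩, rfl⟩ := hz
    refine ⟨_, ι_mem_S b j hj, ?_⟩
    rw [← mul_one (ExteriorAlgebra.ι R (b j)), con_ι_mul, con_one, mul_zero, sub_zero, Algebra.algebraMap_eq_smul_one]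
  | zero => exact ⟨0, Submodule.zero_mem _, by rw [map_zero, map_zero]⟩
  | add a c _ _ ha hc =>
    obtain ⟨y, hy, e1⟩ := ha
    obtain ⟨y', hy', e2⟩ := hc
    exact ⟨y + y', Submodule.add_mem _ hy hy', by rw [map_add, map_add, e1, e2]⟩
  | smul a c _ hc =>
    obtain ⟨y, hy, e1⟩ := hc
    exact ⟨a • y, Submodule.smul_mem _ _ hy, by rw [map_smul, e1, smul_eq_mul, map_mul, Algebra.smul_def]⟩

theorem con_S_mem {n : ℕ} (b : Fin n → M) (φ : M →ₗ[R] R) (k : ℕ) (y : ExteriorAlgebra R M) (hy : y ∈ S (R := R) b k) :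
    ∃ r ∈ Ideal.span (φ '' (b '' {j | j.val < k})), con φ y = algebraMap R _ r := by
  induction hy using Submodule.span_induction with
  | mem z hz =>
    obtain ⟨j, hj, rfl⟩ := hz
    refine ⟨φ (b j), Ideal.subset_span ⟨_, ⟨j, hj, rfl⟩, rfl⟩, ?_⟩
    rw [← mul_one (ExteriorAlgebra.ι R (b j)), con_ι_mul, con_one, mul_zero, sub_zero, ← Algebra.algebraMap_eq_smul_one]
  | zero => exact ⟨0, Submodule.zero_mem _, by rw [map_zero, map_zero]⟩
  | add a c _ _ ha hc =>
    obtain ⟨r, hr, e1⟩ := ha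
    obtain ⟨r', hr', e2⟩ := hc
    exact ⟨r + r', Submodule.add_mem _ hr hr', by rw [map_add, map_add, e1, e2]⟩
  | smul a c _ hc =>
    obtain ⟨r, hr, e1⟩ := hc
    exact ⟨a * r, Ideal.mul_mem_left _ _ hr, by rw [map_smul, e1, map_mul, Algebra.smul_def]⟩

/-- `x` is regular on the homology of the contraction by `φ`. -/
def RegOnH (φ : M →ₗ[R] R) (x : R) : Prop :=
  ∀ (p : ℕ) (z u : ExteriorAlgebra R M), z ∈ (⋀[R]^p M : Submodule R (ExteriorAlgebra R M)) →
    u ∈ (⋀[R]^(p + 1) M : Submodule R (ExteriorAlgebra R M)) → con φ z = 0 → x • z = con φ u →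
    ∃ v ∈ (⋀[R]^(p + 1) M : Submodule R (ExteriorAlgebra R M)), con φ v = z

theorem regOnH_of_basis {n : ℕ} (b : Module.Basis (Fin n) R M) (φ : M →ₗ[R] R) (c : ℕ) (hc : c ≤ n)
    (h0 : ∀ j : Fin n, c ≤ j.val → φ (b j) = 0)
    (hreg : IsWeaklyRegular R (List.ofFn fun k => if k.val < c then φ (b k) else 1)) (x : R)
    (hx : ∀ a, x * a ∈ Ideal.span (φ '' (b '' {j | j.val < c})) → a ∈ Ideal.span (φ '' (b '' {j | j.val < c}))) :
    RegOnH φ x := by
  suffices key : ∀ k, c ≤ k → k ≤ n → ∀ p, ∀ z ∈ S (R := R) b k ^ p, ∀ u ∈ S (R := R) b k ^ (p + 1),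
      con φ z = 0 → x • z = con φ u → ∃ v ∈ S (R := R) b k ^ (p + 1), con φ v = z by
    intro p z u hz hu h1 h2
    have := key n hc le_rfl p z (by rw [S_top]; exact hz) u (by rw [S_top]; exact hu) h1 h2
    rwa [S_top] at this
  let φ' : M →ₗ[R] R := b.constr R fun k => if k.val < c then φ (b k) else 1
  have hφ' : ∀ j : Fin n, φ' (b j) = if j.val < c then φ (b j) else 1 := fun j => b.constr_basis R _ j
  have hag : ∀ j : Fin n, j.val < c → φ (b j) = φ' (b j) := fun j hj => by rw [hφ', if_pos hj]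
  have hreg' : IsWeaklyRegular R (List.ofFn fun k => φ' (b k)) := by simpa only [hφ'] using hreg
  intro k hck
  induction k, hck using Nat.le_induction with
  | base =>
    intro hcn p z hz u hu h1 h2
    rcases p with _ | p
    · rw [pow_zero, Submodule.mem_one] at hz
      obtain ⟨a, rfl⟩ := hz
      rw [pow_one] at hu
      obtain ⟨r, hr, er⟩ := con_S_mem b φ c u hu
      have hxa : x * a = r := by
        apply ExteriorAlgebra.algebraMap_leftInverse (R := R) M |>.injective
        rw [map_mul, ← Algebra.smul_def, h2, er]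
      obtain ⟨y, hy, ey⟩ := con_S_eq b φ c a (hx a (hxa ▸ hr))
      exact ⟨y, by rwa [pow_one], ey⟩
    · rw [con_congr b φ φ' c hag (p + 1) z hz] at h1
      obtain ⟨v, hv, e⟩ := con_exact_aux b φ' hreg' c hcn p z hz h1
      exact ⟨v, hv, (con_congr b φ φ' c hag (p + 2) v hv).trans e⟩
  | succ k hk ih =>
    intro hkn' p z hz u hu h1 h2
    have hkn : k < n := hkn'
    have he : φ (b ⟨k, hkn⟩) = 0 := h0 _ hk
    obtain ⟨u0, hu0, u1, hu1, rfl⟩ := mem_decomp b k hkn p u hu
    rw [map_add, con_ι_mul, he, zero_smul, zero_sub] at h2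
    rcases p with _ | p
    · have hu1c : con φ u1 = 0 := by
        rw [pow_zero, Submodule.mem_one] at hu1
        obtain ⟨a, rfl⟩ := hu1
        rw [Algebra.algebraMap_eq_smul_one, map_smul, con_one, smul_zero]
      rw [hu1c, mul_zero, neg_zero, add_zero] at h2
      rw [pow_zero] at hz
      obtain ⟨v, hv, e⟩ := ih (Nat.le_of_lt hkn) 0 z (by rwa [pow_zero]) u0 hu0 h1 h2
      exact ⟨v, S_pow_mono b (Nat.le_succ k) _ hv, e⟩
    · obtain ⟨z0, hz0, z1, hz1, rfl⟩ := mem_decomp b k hkn p z hz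
      rw [map_add, con_ι_mul, he, zero_smul, zero_sub, ← mul_neg] at h1
      obtain ⟨hz0c, hz1c⟩ := eq_zero_and_eq_zero b k hkn (con_mem b φ k p z0 hz0)
        (q' := p - 1) (y := -con φ z1) (by
          refine Submodule.neg_mem _ ?_
          rcases p with _ | p
          · rw [pow_zero, Submodule.mem_one] at hz1
            obtain ⟨a, rfl⟩ := hz1
            rw [Algebra.algebraMap_eq_smul_one, map_smul, con_one, smul_zero]
            exact Submodule.zero_mem _
          · exact con_mem b φ k p z1 hz1) h1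
      rw [neg_eq_zero] at hz1c
      have h2' : (x • z0 - con φ u0) + ExteriorAlgebra.ι R (b ⟨k, hkn⟩) * (x • z1 + con φ u1) = 0 := by
        rw [smul_add, ← Algebra.mul_smul_comm] at h2
        rw [mul_add, sub_add_eq_add_sub, ← add_assoc, h2]
        abel
      obtain ⟨hA, hB⟩ := eq_zero_and_eq_zero b k hkn
        (Submodule.sub_mem _ (Submodule.smul_mem _ x hz0) (con_mem b φ k (p + 1) u0 hu0))
        (Submodule.add_mem _ (Submodule.smul_mem _ x hz1) (con_mem b φ k p u1 hu1)) h2'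
      obtain ⟨v0, hv0, e0⟩ := ih (Nat.le_of_lt hkn) (p + 1) z0 hz0 u0 hu0 hz0c (sub_eq_zero.mp hA)
      obtain ⟨v1, hv1, e1⟩ := ih (Nat.le_of_lt hkn) p z1 hz1 (-u1) (Submodule.neg_mem _ hu1) hz1c
        (by rw [map_neg]; exact eq_neg_of_add_eq_zero_left hB)
      refine ⟨v0 - ExteriorAlgebra.ι R (b ⟨k, hkn⟩) * v1,
        Submodule.sub_mem _ (S_pow_mono b (Nat.le_succ k) _ hv0) ?_, ?_⟩
      · rw [pow_succ']
        exact Submodule.mul_mem_mul (ι_mem_S b ⟨k, hkn⟩ (Nat.lt_succ_self k)) (S_pow_mono b (Nat.le_succ k) _ hv1)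
      · rw [map_sub, con_ι_mul, he, zero_smul, zero_sub, sub_neg_eq_add, e0, e1]

theorem map_mem_exteriorPower {N : Type w} [AddCommGroup N] [Module R N] (f : M →ₗ[R] N) (p : ℕ)
    {z : ExteriorAlgebra R M} (hz : z ∈ (⋀[R]^p M : Submodule R (ExteriorAlgebra R M))) :
    ExteriorAlgebra.map f z ∈ (⋀[R]^p N : Submodule R (ExteriorAlgebra R N)) := by
  have h : (⋀[R]^p M : Submodule R (ExteriorAlgebra R M)).map (ExteriorAlgebra.map f).toLinearMap ≤
      (⋀[R]^p N : Submodule R (ExteriorAlgebra R N)) := by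
    show (LinearMap.range (ExteriorAlgebra.ι R (M := M)) ^ p).map (ExteriorAlgebra.map f).toLinearMap ≤
      LinearMap.range (ExteriorAlgebra.ι R (M := N)) ^ p
    rw [Submodule.map_pow]
    refine pow_le_pow_left' ?_ p
    rintro _ ⟨_, ⟨m, rfl⟩, rfl⟩
    exact ⟨f m, (ExteriorAlgebra.map_apply_ι f m).symm⟩
  exact h ⟨z, hz, rfl⟩

theorem con_map {N : Type w} [AddCommGroup N] [Module R N] (f : M →ₗ[R] N) (φ : N →ₗ[R] R) (z : ExteriorAlgebra R M) :
    con φ (ExteriorAlgebra.map f z) = ExteriorAlgebra.map f (con (φ.comp f) z) := by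
  induction z using CliffordAlgebra.left_induction with
  | algebraMap r =>
    rw [AlgHom.commutes, Algebra.algebraMap_eq_smul_one, Algebra.algebraMap_eq_smul_one, map_smul, map_smul,
      con_one, con_one, smul_zero, smul_zero, map_zero]
  | add a b ha hb => simp only [map_add, ha, hb]
  | ι_mul a m ha =>
    show con φ (ExteriorAlgebra.map f (ExteriorAlgebra.ι R m * a)) =
      ExteriorAlgebra.map f (con (φ.comp f) (ExteriorAlgebra.ι R m * a))
    rw [map_mul, ExteriorAlgebra.map_apply_ι, con_ι_mul, con_ι_mul, map_sub, map_smul, map_mul,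
      ExteriorAlgebra.map_apply_ι, ha, LinearMap.comp_apply]

/-- Retracts inherit regularity. -/
theorem regOnH_of_retract {N : Type w} [AddCommGroup N] [Module R N] (φ : M →ₗ[R] R) (φ' : N →ₗ[R] R)
    (i : M →ₗ[R] N) (π : N →ₗ[R] M) (hπi : π.comp i = LinearMap.id) (hi : φ'.comp i = φ) (hπ : φ.comp π = φ')
    {x : R} (h : RegOnH φ' x) : RegOnH φ x := by
  intro p z u hz hu h1 h2
  obtain ⟨v, hv, e⟩ := h p _ _ (map_mem_exteriorPower i p hz) (map_mem_exteriorPower i (p + 1) hu)
    (by rw [con_map, hi, h1, map_zero]) (by rw [con_map, hi, ← h2, map_smul])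
  refine ⟨_, map_mem_exteriorPower π (p + 1) hv, ?_⟩
  rw [con_map, hπ, e, ← AlgHom.comp_apply, ExteriorAlgebra.map_comp_map, hπi, ExteriorAlgebra.map_id,
    AlgHom.id_apply]

theorem isWeaklyRegular_append_ones : ∀ (rs : List R) (n : ℕ), IsWeaklyRegular R rs →
    IsWeaklyRegular R (rs ++ List.replicate n 1) := by
  intro rs n h
  induction n with
  | zero => simpa using h
  | succ n ih =>
    rw [List.replicate_succ', ← List.append_assoc, isWeaklyRegular_append_iff]
    refine ⟨ih, ?_⟩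
    rw [isWeaklyRegular_cons_iff]
    exact ⟨IsSMulRegular.one _, IsWeaklyRegular.nil _ _⟩

/-- `x` regular on `R/im φ`, `im φ` generated by a weakly regular sequence: `x` is regular on the homology. -/
theorem regOnH_of_range {n c : ℕ} (b : Module.Basis (Fin n) R M) (φ : M →ₗ[R] R) (r : Fin c → R)
    (hr : IsWeaklyRegular R (List.ofFn r)) (hrange : LinearMap.range φ = Ideal.span (Set.range r))
    (x : R) (hx : ∀ a, x * a ∈ Ideal.span (Set.range r) → a ∈ Ideal.span (Set.range r)) : RegOnH φ x := by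
  classical
  have hmem : ∀ k, ∃ m, φ m = r k := fun k => by
    have : r k ∈ LinearMap.range φ := hrange ▸ Ideal.subset_span ⟨k, rfl⟩
    exact this
  choose a ha using hmem
  have hlift : ∀ j, ∃ w : Fin c → R, ∑ k, w k * r k = φ (b j) := fun j => by
    have : φ (b j) ∈ Ideal.span (Set.range r) := hrange ▸ LinearMap.mem_range_self φ (b j)
    exact (Ideal.mem_span_range_iff_exists_fun).mp this
  choose w hw using hlift
  let σ : (Fin c → R) →ₗ[R] R := ((Pi.basisFun R (Fin c)).constr R r)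
  let α : (Fin c → R) →ₗ[R] M := ((Pi.basisFun R (Fin c)).constr R a)
  let ψ : M →ₗ[R] (Fin c → R) := b.constr R w
  have hσ : ∀ v, σ v = ∑ k, v k * r k := fun v => by
    simp [σ, Module.Basis.constr_apply_fintype, Pi.basisFun_equivFun]
  have hσα : φ.comp α = σ := (Pi.basisFun R (Fin c)).ext fun k => by
    rw [hσ]; simp [α, ha, Pi.single_apply]
  have hσψ : σ.comp ψ = φ := b.ext fun j => by
    rw [LinearMap.comp_apply, hσ, ← hw j, show ψ (b j) = w j from b.constr_basis R w j]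
  let φ' : (Fin c → R) × M →ₗ[R] R := σ.comp (LinearMap.fst R _ _)
  let bb : Module.Basis (Fin (c + n)) R ((Fin c → R) × M) := ((Pi.basisFun R (Fin c)).prod b).reindex finSumFinEquiv
  refine regOnH_of_retract (N := (Fin c → R) × M) φ φ' (ψ.prod LinearMap.id : M →ₗ[R] (Fin c → R) × M)
    (α.coprod (LinearMap.id - α.comp ψ) : (Fin c → R) × M →ₗ[R] M) (LinearMap.ext fun m => by simp)
    (by rw [← hσψ]; rfl) (LinearMap.ext fun v => ?_) ?_
  · obtain ⟨v, m⟩ := v
    have h1 : ∀ y, φ (α y) = σ y := fun y => LinearMap.congr_fun hσα y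
    have h2 : σ (ψ m) = φ m := LinearMap.congr_fun hσψ m
    simp [φ', h1, h2]
  have hlow : ∀ k : Fin c, φ' (bb (Fin.castAdd n k)) = r k := fun k => by
    simp [bb, φ', σ, finSumFinEquiv_symm_apply_castAdd, Pi.single_apply]
  have hhigh : ∀ k : Fin n, φ' (bb (Fin.natAdd c k)) = 0 := fun k => by
    simp [bb, φ', finSumFinEquiv_symm_apply_natAdd]
  have hspan : φ' '' (bb '' {j | j.val < c}) = Set.range r := by
    ext y
    constructor
    · rintro ⟨_, ⟨j, hj, rfl⟩, rfl⟩
      exact ⟨⟨j.val, hj⟩, ((congrArg (φ' ∘ bb) (show j = Fin.castAdd n ⟨j.val, hj⟩ from Fin.ext rfl)).trans (hlow _)).symm⟩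
    · rintro ⟨k, rfl⟩
      exact ⟨_, ⟨Fin.castAdd n k, k.2, rfl⟩, hlow k⟩
  refine regOnH_of_basis bb φ' c (Nat.le_add_right _ _) (fun j hj => ?_) ?_ x (by rw [hspan]; exact hx)
  · rw [show j = Fin.natAdd c ⟨j.val - c, by omega⟩ from Fin.ext (by simp; omega)]
    exact hhigh _
  · rw [List.ofFn_add]
    have e1 : (fun i : Fin c => if (Fin.castAdd n i).val < c then φ' (bb (Fin.castAdd n i)) else 1) = r := by
      funext i; rw [if_pos (by simp), hlow]
    have e2 : (fun i : Fin n => if (Fin.natAdd c i).val < c then φ' (bb (Fin.natAdd c i)) else 1) = fun _ => (1 : R) := by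
      funext i; rw [if_neg (by simp)]
    rw [e2]
    erw [e1]
    rw [List.ofFn_const]
    exact isWeaklyRegular_append_ones _ _ hr

end Groth.Agent.KoszSh77
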