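import Groth.Agent.Depth.CM
import Mathlib.RingTheory.Regular.Flat
import Mathlib.RingTheory.Regular.RegularSequence

/-!
# Quotients of Cohen–Macaulay rings by regular sequences are unmixed
-/

set_option autoImplicit false
set_option linter.style.haveILetI false

universe u

open RingTheory.Sequence IsLocalRing
open scoped Pointwise

namespace Groth.Agent.KoszSh77

/-- Quotients of CM modules by regular sequences are CM. -/
theorem isCohenMacaulayModule_quotient {S : Type u} [CommRing S] [IsLocalRing S] [IsNoetherianRing S] :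
    ∀ (rs : List S) (M : Type u) [AddCommGroup M] [Module S M] [Module.Finite S M],
      LocCoh.IsCohenMacaulayModule S M → IsWeaklyRegular M rs → (∀ r ∈ rs, r ∈ maximalIdeal S) →
      LocCoh.IsCohenMacaulayModule S (M ⧸ Ideal.ofList rs • (⊤ : Submodule S M)) := by
  intro rs
  induction rs with
  | nil =>
    intro M _ _ _ hM _ _
    exact (Depth.isCohenMacaulayModule_congr (Submodule.quotEquivOfEqBot _ (by simp))).mpr hM
  | cons r rs ih =>
    intro M _ _ _ hM hrs hmem
    rw [isWeaklyRegular_cons_iff] at hrs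
    have h1 := ih (QuotSMulTop r M) ((Depth.isCohenMacaulayModule_quotSMulTop_iff (hmem r (by simp)) hrs.1).mpr hM)
      hrs.2 fun a ha => hmem a (List.mem_cons_of_mem _ ha)
    exact (Depth.isCohenMacaulayModule_congr (Submodule.quotOfListConsSMulTopEquivQuotSMulTopInner M r rs)).mpr h1

/-- A zero divisor modulo a regular sequence vanishes at a minimal point. -/
theorem exists_prime_of_mul_mem {R : Type u} [CommRing R] [IsNoetherianRing R] (rs : List R)
    (hrs : IsWeaklyRegular R rs) {x c : R} (hc : c ∉ Ideal.ofList rs) (hxc : x * c ∈ Ideal.ofList rs) :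
    ∃ (P : Ideal R) (_ : P.IsPrime), x ∈ P ∧ Ideal.ofList rs ≤ P ∧
      ∀ (S : Type u) [CommRing S] [Algebra R S] [IsLocalization.AtPrime S P] [LocCoh.IsCohenMacaulayLocalRing S],
        ringKrullDim (S ⧸ (Ideal.ofList rs).map (algebraMap R S)) = 0 := by
  set I := Ideal.ofList rs with hI
  let J : Ideal R := Submodule.comap (LinearMap.mulRight R c) I
  have hJ : ∀ a, a ∈ J ↔ a * c ∈ I := fun a => Iff.rfl
  have hJne : J ≠ ⊤ := fun h => hc (by simpa using (hJ 1).mp (h ▸ Submodule.mem_top))
  obtain ⟨P, hP⟩ := Ideal.nonempty_minimalPrimes hJne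
  haveI : P.IsPrime := hP.1.1
  have hIJ : I ≤ J := fun a ha => (hJ a).mpr (Ideal.mul_mem_right _ _ ha)
  refine ⟨P, inferInstance, hP.1.2 ((hJ x).mpr hxc), hIJ.trans hP.1.2, fun S => ?_⟩
  intro _ _ _ _
  haveI : Module.Flat R S := IsLocalization.flat S P.primeCompl
  have hmap : Ideal.ofList (rs.map (algebraMap R S)) = I.map (algebraMap R S) := (Ideal.map_ofList _ rs).symm
  have hmem : ∀ r ∈ rs.map (algebraMap R S), r ∈ maximalIdeal S := by
    intro r hr
    obtain ⟨a, ha, rfl⟩ := List.mem_map.mp hr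
    exact (IsLocalization.AtPrime.to_map_mem_maximal_iff S P a).mpr
      (hP.1.2 (hIJ (Ideal.subset_span ha)))
  have hCM := isCohenMacaulayModule_quotient (rs.map (algebraMap R S)) S (Depth.isCohenMacaulayModule_self S)
    (hrs.of_flat (S := S)) hmem
  let m : S ⧸ Ideal.ofList (rs.map (algebraMap R S)) • (⊤ : Submodule S S) :=
    Submodule.Quotient.mk (algebraMap R S c)
  have hann : ∀ a : R, algebraMap R S a • m = 0 ↔ ∃ s ∉ P, s * (a * c) ∈ I := by
    intro a
    rw [← Submodule.Quotient.mk_smul, Submodule.Quotient.mk_eq_zero, smul_eq_mul, smul_eq_mul, Ideal.mul_top,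
      hmap, ← map_mul, IsLocalization.algebraMap_mem_map_algebraMap_iff P.primeCompl S]
    exact ⟨fun ⟨s, hs, h⟩ => ⟨s, hs, h⟩, fun ⟨s, hs, h⟩ => ⟨s, hs, h⟩⟩
  have hm : m ≠ 0 := by
    intro h
    obtain ⟨s, hs, hsc⟩ := (hann 1).mp (by rw [h, smul_zero])
    exact hs (hP.1.2 ((hJ s).mpr (by simpa using hsc)))
  obtain ⟨p', hp', hle⟩ := exists_le_isAssociatedPrime_of_isNoetherianRing S m hm
  haveI : p'.IsPrime := Depth.isPrime_of_mem_associatedPrimes hp'
  have hcomap : p'.comap (algebraMap R S) ≤ P := fun a ha => by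
    refine (IsLocalization.AtPrime.to_map_mem_maximal_iff S P a).mp ?_
    exact le_maximalIdeal (Ideal.IsPrime.ne_top inferInstance) ha
  have hJp : J ≤ p'.comap (algebraMap R S) := fun a ha => by
    refine hle ?_
    rw [Submodule.mem_colon_singleton, Submodule.mem_bot]
    exact (hann a).mpr ⟨1, P.one_notMem, by simpa using (hJ a).mp ha⟩
  have hPp : P ≤ p'.comap (algebraMap R S) := hP.2 ⟨inferInstance, hJp⟩ hcomap
  have hp'm : p' = maximalIdeal S := by
    refine le_antisymm (le_maximalIdeal (Ideal.IsPrime.ne_top inferInstance)) ?_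
    rw [← IsLocalization.AtPrime.map_eq_maximalIdeal P S]
    exact Ideal.map_le_iff_le_comap.mpr hPp
  have h := Depth.ringKrullDim_quotient_associatedPrime hCM hp'
  rw [hp'm, ringKrullDim_eq_zero_of_isField
    ((Ideal.Quotient.maximal_ideal_iff_isField_quotient _).mp (maximalIdeal.isMaximal S))] at h
  rw [h, Module.supportDim_eq_of_equiv (Submodule.quotEquivOfEq _ (I.map (algebraMap R S))
    (by rw [smul_eq_mul, Ideal.mul_top, hmap])), Module.supportDim_quotient_eq_ringKrullDim]

end Groth.Agent.KoszSh77
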