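import Groth.Agent.KoszSh77.Scale
import Groth.Agent.KoszSh77.Cycles
import Groth.Agent.KoszSh77.RegH
import Groth.Agent.KoszSh77.Unmixed
import Groth.Agent.RegImm38.Spread
import Groth.Agent.IdealSh.Extend
import Groth.Prelude.Def_RegImm

/-!
# A divisor meeting a local complete intersection properly is regular on the Koszul homology
-/

set_option autoImplicit false
set_option backward.isDefEq.respectTransparency false
set_option backward.isDefEq.respectTransparency.types false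
set_option linter.style.haveILetI false
set_option maxHeartbeats 400000

universe u

open CategoryTheory CategoryTheory.Limits AlgebraicGeometry TopologicalSpace Opposite exteriorPower
open Groth.Agent.KoszTwLib RingTheory.Sequence

noncomputable section

namespace Groth.Agent.KoszSh77

variable {X : Scheme.{u}}

/-- The differential, in the exterior algebra. -/
theorem coe_loc_d {E : X.Modules} {s : E ⟶ Coh.structureModule X} (C : KoszSh.Cx E s) (p : ℕ) (U : X.affineOpens)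
    (w : Γ(C.K.X (p + 1), U.1)) :
    (C.loc p U ((C.K.d (p + 1) p).app U.1 w) : ExteriorAlgebra Γ(X, U.1) Γ(E, U.1)) =
      con (KoszSh.secForm s U.1) (C.loc (p + 1) U w : ExteriorAlgebra Γ(X, U.1) Γ(E, U.1)) := by
  induction w using loc_induction C (p + 1) U with
  | h0 => simp
  | hgen e =>
    rw [C.rule, LinearEquiv.apply_symm_apply, LinearEquiv.apply_symm_apply, exteriorPower.ιMulti_apply_coe,
      con_ιMulti]
  | hadd a b ha hb => simp only [map_add, Submodule.coe_add, ha, hb]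
  | hsmul r a ha => simp only [map_smul, Scheme.Modules.Hom.app_smul, Submodule.coe_smul, ha]

variable {n : ℕ} (IY : Fin n → X.IdealSheafData)

theorem range_secForm_sumι (U : X.affineOpens) :
    LinearMap.range (KoszSh.secForm (sumι IY) U.1) = (⨆ i, IY i).ideal U := by
  rw [Scheme.IdealSheafData.ideal_iSup, iSup_apply]
  refine le_antisymm ?_ (iSup_le fun i a ha => ?_)
  · rintro _ ⟨m, rfl⟩
    rw [secForm_desc]
    exact Submodule.sum_mem _ fun i _ => Submodule.mem_iSup_of_mem i (IdealSh.IdealMod.sect_mem (IY i) U _)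
  · obtain ⟨s, hs⟩ := IdealSh.IdealMod.exists_sect (IY i) U.1 a ((IdealSh.IdealMod.mem_ideal_iff _ U a).mp ha)
    refine ⟨(sectPi _ U.1).symm (Pi.single i s), ?_⟩
    rw [secForm_desc, LinearEquiv.apply_symm_apply, Finset.sum_eq_single i]
    · rw [Pi.single_eq_same]; exact hs
    · intro j _ hj
      rw [Pi.single_eq_of_ne hj, map_zero]
    · intro h; exact absurd (Finset.mem_univ i) h

theorem exists_regular_gens (hY : ∀ i, BlowUp.IsEffCartierIdeal (IY i))
    (hZ : RegImm.IsRegularImmersion RegImm.Kind.regular (⨆ i, IY i).subschemeι) (U : X.Opens) {y : X} (hy : y ∈ U) :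
    ∃ W : X.affineOpens, y ∈ W.1 ∧ W.1 ≤ U ∧
      (∀ i, ∃ f ∈ nonZeroDivisors Γ(X, W.1), (IY i).ideal W = Ideal.span {f}) ∧
      ∃ rs : List Γ(X, W.1), IsWeaklyRegular Γ(X, W.1) rs ∧ (⨆ i, IY i).ideal W = Ideal.ofList rs := by
  have hB : ∀ {V : X.Opens} {p : X}, p ∈ V → ∃ W ∈ good IY ⊤, p ∈ W ∧ W ≤ V :=
    Opens.isBasis_iff_nbhd.mp (isBasis_good IY ⊤ hY IdealSh.EffCartier.top)
  by_cases hyZ : y ∈ (⨆ i, IY i).support
  · rw [← SetLike.mem_coe, ← Scheme.IdealSheafData.range_subschemeι] at hyZ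
    obtain ⟨z, rfl⟩ := hyZ
    obtain ⟨U₀, hzU₀, -, rs, hrs, hker⟩ := hZ.2 z
    obtain ⟨W, ⟨hW, -, hf⟩, hyW, hWle⟩ := hB (show (⨆ i, IY i).subschemeι z ∈ U ⊓ U₀.1 from ⟨hy, hzU₀⟩)
    let W' : X.affineOpens := ⟨W, hW⟩
    have hle : W'.1 ≤ U₀.1 := hWle.trans inf_le_right
    letI : Algebra Γ(X, U₀.1) Γ(X, W'.1) := (X.presheaf.map (homOfLE hle).op).hom.toAlgebra
    haveI : Module.Flat Γ(X, U₀.1) Γ(X, W'.1) := by
      have := Scheme.Hom.flat_appLE (𝟙 X) U₀.2 W'.2 (e := hle)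
      simpa [Scheme.Hom.appLE, CommRingCat.hom_id, RingHom.Flat] using! this
    refine ⟨W', hyW, hWle.trans inf_le_left, hf, rs.map (algebraMap _ _), hrs.toIsWeaklyRegular.of_flat, ?_⟩
    rw [← (⨆ i, IY i).map_ideal (U := W') (V := U₀) hle, ← (⨆ i, IY i).ker_subschemeι_app U₀, hker, ← Ideal.map_ofList]
    rfl
  · obtain ⟨W, ⟨hW, -, hf⟩, hyW, hWle⟩ := hB (show y ∈ U ⊓ (⟨((⨆ i, IY i).support : Set X)ᶜ,
      (⨆ i, IY i).support.isClosed.isOpen_compl⟩ : X.Opens) from ⟨hy, hyZ⟩)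
    refine ⟨⟨W, hW⟩, hyW, hWle.trans inf_le_left, hf, [1], ?_, ?_⟩
    · rw [isWeaklyRegular_cons_iff]
      exact ⟨IsSMulRegular.one _, IsWeaklyRegular.nil _ _⟩
    · rw [IdealSh.Extend.ideal_eq_top_of_disjoint (U := W) (Set.disjoint_left.mpr fun p hp hpW => (hWle hpW).2 hp)
        ⟨W, hW⟩ le_rfl, Ideal.ofList_singleton, Ideal.span_singleton_one]

theorem mem_of_mul_mem (ID : X.IdealSheafData) [IsLocallyNoetherian X]
    (hCM : ∀ x : X, LocCoh.IsCohenMacaulayLocalRing (X.presheaf.stalk x))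
    (hZD : ∀ z : ↥(⨆ i, IY i).subscheme, ringKrullDim ((⨆ i, IY i).subscheme.presheaf.stalk z) = 0 →
      (⨆ i, IY i).subschemeι.base z ∉ Set.range ID.subschemeι.base)
    (W : X.affineOpens) (rs : List Γ(X, W.1)) (hrs : IsWeaklyRegular Γ(X, W.1) rs)
    (hI : (⨆ i, IY i).ideal W = Ideal.ofList rs) (x : Γ(X, W.1)) (hx : ID.ideal W = Ideal.span {x})
    (c : Γ(X, W.1)) (hc : x * c ∈ Ideal.ofList rs) : c ∈ Ideal.ofList rs := by
  by_contra hcI
  haveI : IsNoetherianRing Γ(X, W.1) := IsLocallyNoetherian.component_noetherian W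
  obtain ⟨P, hP, hxP, hIP, hdim⟩ := exists_prime_of_mul_mem rs hrs hcI hc
  let p : PrimeSpectrum Γ(X, W.1) := ⟨P, hP⟩
  have hy : W.2.fromSpec p ∈ W.1 := by rw [← SetLike.mem_coe, ← W.2.range_fromSpec]; exact ⟨p, rfl⟩
  have hmem : ∀ J : X.IdealSheafData, J.ideal W ≤ P → W.2.fromSpec p ∈ (J.support : Set X) := fun J hJ => by
    have h : W.2.fromSpec p ∈ X.zeroLocus (U := W.1) (J.ideal W : Set Γ(X, W.1)) ∩ W.1 := by
      rw [← W.2.fromSpec_image_zeroLocus]
      exact ⟨p, hJ, rfl⟩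
    exact ((Set.ext_iff.mp (J.coe_support_inter W) _).mpr h).1
  obtain ⟨z, hz⟩ : W.2.fromSpec p ∈ Set.range (⨆ i, IY i).subschemeι := by
    rw [Scheme.IdealSheafData.range_subschemeι]
    exact hmem _ (hI ▸ hIP)
  have hzW : (⨆ i, IY i).subschemeι z ∈ W.1 := hz ▸ hy
  refine hZD z ?_ ?_
  · haveI : IsClosedImmersion ((⨆ i, IY i).subschemeι ∣_ W.1) := inferInstance
    let S := X.presheaf.stalk ((⨆ i, IY i).subschemeι z)
    letI : Algebra Γ(X, W.1) S := (X.presheaf.germ W.1 _ hzW).hom.toAlgebra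
    haveI : IsLocalization.AtPrime S P := by
      have key : ∀ (q : X) (hq : q ∈ W.1), W.2.fromSpec p = q →
          @IsLocalization.AtPrime _ _ (X.presheaf.stalk q) _ (X.presheaf.germ W.1 q hq).hom.toAlgebra P hP := by
        rintro q hq rfl
        exact W.2.isLocalization_stalk' p hq
      exact key _ hzW hz.symm
    haveI : LocCoh.IsCohenMacaulayLocalRing S := hCM _
    have e := RingHom.quotientKerEquivOfSurjective ((⨆ i, IY i).subschemeι.stalkMap_surjective z)
    rw [← ringKrullDim_eq_of_ringEquiv e,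
      ringKrullDim_eq_of_ringEquiv (Ideal.quotEquivOfEq (J := (Ideal.ofList rs).map (algebraMap Γ(X, W.1) S)) ?_)]
    · exact hdim S
    · rw [RegImm38.ker_stalkMap_eq_map (⨆ i, IY i).subschemeι W.2 z hzW,
        (⨆ i, IY i).ker_subschemeι_app W, hI]
      rfl
  · show (⨆ i, IY i).subschemeι z ∈ Set.range ID.subschemeι
    rw [Scheme.IdealSheafData.range_subschemeι, hz]
    exact hmem ID (hx ▸ (Ideal.span_singleton_le_iff_mem P).mpr hxP)

/-- The regularity of `D` on the homology. -/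
theorem isSMulRegular_homology (hY : ∀ i, BlowUp.IsEffCartierIdeal (IY i)) (ID : X.IdealSheafData)
    [IsLocallyNoetherian X] (hCM : ∀ x : X, LocCoh.IsCohenMacaulayLocalRing (X.presheaf.stalk x))
    (hZ : RegImm.IsRegularImmersion RegImm.Kind.regular (⨆ i, IY i).subschemeι)
    (hZD : ∀ z : ↥(⨆ i, IY i).subscheme, ringKrullDim ((⨆ i, IY i).subscheme.presheaf.stalk z) = 0 →
      (⨆ i, IY i).subschemeι.base z ∉ Set.range ID.subschemeι.base)
    (C : KoszSh.Cx (sumIdeal IY) (sumι IY)) (q : ℕ)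
    (U : X.affineOpens) (g : Γ(X, U.1)) (hJ : ID.ideal U = Ideal.span {g}) :
    IsSMulRegular Γ(C.K.homology q, U.1) g := by
  rw [isSMulRegular_iff_right_eq_zero_of_smul]
  intro h hgh
  refine KoszTwLib.eq_zero_of_locally _ U.1 h fun y hy => ?_
  obtain ⟨W, hyW, hWU, hf, rs, hrs, hI⟩ := exists_regular_gens IY hY hZ U.1 hy
  refine ⟨W.1, hWU, hyW, ?_⟩
  set x := QCoh.rres hWU g with hx
  have hxJ : ID.ideal W = Ideal.span {x} := IdealSh.EffCartier.restrict_eq hWU hJ
  have hxh : x • QCoh.res _ hWU h = 0 := by rw [← QCoh.res_smul, hgh, map_zero]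
  obtain ⟨b⟩ := exists_basis IY W hf
  have hR : RegOnH (KoszSh.secForm (sumι IY) W.1) x := by
    refine regOnH_of_range b _ rs.get (by rw [List.ofFn_get]; exact hrs) ?_ x ?_
    · rw [range_secForm_sumι, hI, Ideal.ofList, Set.range_list_get]
    · intro a ha
      rw [Set.range_list_get] at ha ⊢
      exact mem_of_mul_mem IY ID hCM hZD W rs hrs hI x hxJ a ha
  have hqC := isQuasicoherent_cxTerm IY hY C
  obtain ⟨c, hc⟩ := homologyπ_app_surjective hqC q W.2 (QCoh.res _ hWU h)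
  rw [← hc, ← Scheme.Modules.Hom.app_smul] at hxh
  obtain ⟨v, hv⟩ := exists_toCycles_eq hqC (q + 1) q (by simp) W.2 _ hxh
  show QCoh.res _ hWU h = 0
  rw [← hc]
  have hzero : con (KoszSh.secForm (sumι IY) W.1)
      (C.loc q W ((C.K.iCycles q).app W.1 c) : ExteriorAlgebra Γ(X, W.1) Γ(sumIdeal IY, W.1)) = 0 := by
    rcases q with _ | p
    · have hm : (C.loc 0 W ((C.K.iCycles 0).app W.1 c) : ExteriorAlgebra Γ(X, W.1) Γ(sumIdeal IY, W.1)) ∈
          (⋀[Γ(X, W.1)]^0 Γ(sumIdeal IY, W.1) : Submodule Γ(X, W.1) (ExteriorAlgebra Γ(X, W.1) Γ(sumIdeal IY, W.1))) :=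
        (C.loc 0 W ((C.K.iCycles 0).app W.1 c)).2
      change _ ∈ LinearMap.range (ExteriorAlgebra.ι Γ(X, W.1) (M := Γ(sumIdeal IY, W.1))) ^ 0 at hm
      rw [pow_zero, Submodule.mem_one] at hm
      obtain ⟨r, hr⟩ := hm
      rw [← hr, Algebra.algebraMap_eq_smul_one, map_smul, con_one, smul_zero]
    · rw [← coe_loc_d, d_iCycles_app, map_zero]
      rfl
  obtain ⟨w, hw, hwz⟩ := hR q _ (C.loc (q + 1) W v : ExteriorAlgebra Γ(X, W.1) Γ(sumIdeal IY, W.1))
    (C.loc q W ((C.K.iCycles q).app W.1 c)).2 (C.loc (q + 1) W v).2 hzero (by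
      rw [← coe_loc_d, ← iCycles_toCycles_app, hv, Scheme.Modules.Hom.app_smul, map_smul]
      rfl)
  have hcd : c = (C.K.toCycles (q + 1) q).app W.1 ((C.loc (q + 1) W).symm ⟨w, hw⟩) := by
    refine iCycles_app_injective q W.1 ((C.loc q W).injective (Subtype.ext ?_))
    rw [iCycles_toCycles_app, coe_loc_d, LinearEquiv.apply_symm_apply]
    exact hwz.symm
  rw [hcd]
  exact homologyπ_toCycles_app _ q _ _

end Groth.Agent.KoszSh77
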