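import Groth.Agent.KoszSh77.Sheaf
import Groth.Agent.LFFrame.Basic
import Mathlib.LinearAlgebra.ExteriorPower.Basis

/-!
# Terms of Koszul complexes of locally free modules
-/

set_option autoImplicit false
set_option backward.isDefEq.respectTransparency false
set_option backward.isDefEq.respectTransparency.types false
set_option linter.style.haveILetI false

universe u

open CategoryTheory CategoryTheory.Limits AlgebraicGeometry TopologicalSpace Opposite exteriorPower
open Groth.Agent.Props.QStalk

noncomputable section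

namespace Groth.Agent.KoszSh77

variable {X : Scheme.{u}} {E : X.Modules} {s : E ⟶ Coh.structureModule X}

/-- A module localizes at `g` if bases restrict to bases. -/
theorem isLocalizingAt_of_basis {M : X.Modules} {U : X.Opens} (hU : IsAffineOpen U) (g : Γ(X, U)) {I : Type*}
    [Fintype I] (b : Module.Basis I Γ(X, U) Γ(M, U))
    (b' : Module.Basis I Γ(X, X.basicOpen g) Γ(M, X.basicOpen g))
    (h : ∀ i, QCoh.res M (X.basicOpen_le g) (b i) = b' i) : QCoh.IsLocalizingAt M g := by
  letI : Algebra Γ(X, U) Γ(X, X.basicOpen g) :=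
    (X.presheaf.map (homOfLE (X.basicOpen_le g)).op).hom.toAlgebra
  haveI : IsLocalization.Away g Γ(X, X.basicOpen g) := hU.isLocalization_basicOpen g
  have hres : ∀ a : I → Γ(X, U), QCoh.res M (X.basicOpen_le g) (∑ i, a i • b i) =
      ∑ i, algebraMap Γ(X, U) Γ(X, X.basicOpen g) (a i) • b' i := by
    intro a
    rw [map_sum]
    exact Finset.sum_congr rfl fun i _ => (QCoh.res_smul M _ _ _).trans (congrArg _ (h i))
  refine ⟨fun x => ?_, fun x hx => ?_⟩
  · obtain ⟨⟨_, n, rfl⟩, hn⟩ := IsLocalization.exist_integer_multiples_of_finite (Submonoid.powers g)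
      (fun i => b'.repr x i)
    choose a ha using hn
    refine ⟨n, ∑ i, a i • b i, (hres a).trans ?_⟩
    conv_rhs => rw [← b'.sum_repr x, Finset.smul_sum]
    refine Finset.sum_congr rfl fun i _ => ?_
    rw [ha i, Algebra.smul_def, map_pow, mul_smul]
    rfl
  · rw [← b.sum_repr x, hres, ← map_zero (b'.equivFun.symm)] at hx
    have h0 : ∀ i, algebraMap Γ(X, U) Γ(X, X.basicOpen g) (b.repr x i) = 0 := fun i => by
      have := congrArg (fun y => b'.repr y i) hx
      simp only [map_zero, Finsupp.zero_apply] at this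
      rwa [Module.Basis.repr_sum_self] at this
    choose k hk using fun i => (IsLocalization.map_eq_zero_iff (Submonoid.powers g) _ _).mp (h0 i)
    choose n hn using fun i => (k i).2
    refine ⟨∑ i, n i, b.ext_elem fun i => ?_⟩
    rw [map_smul, Finsupp.smul_apply, smul_eq_mul, map_zero, Finsupp.zero_apply]
    obtain ⟨d, hd⟩ := Nat.exists_eq_add_of_le (Finset.single_le_sum (fun j _ => Nat.zero_le (n j)) (Finset.mem_univ i))
    have hki : g ^ n i * b.repr x i = 0 := (congrArg (fun z => z * b.repr x i) (hn i)).trans (hk i)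
    rw [hd, pow_add, mul_right_comm, hki, zero_mul]

/-- The wedges of a basis of sections. -/
def termBasis (C : KoszSh.Cx E s) (p : ℕ) (U : X.affineOpens) {n : ℕ}
    (b : Module.Basis (Fin n) Γ(X, U.1) Γ(E, U.1)) :
    Module.Basis (Set.powersetCard (Fin n) p) Γ(X, U.1) Γ(C.K.X p, U.1) :=
  (b.exteriorPower p).map (C.loc p U).symm

theorem termBasis_apply (C : KoszSh.Cx E s) (p : ℕ) (U : X.affineOpens) {n : ℕ}
    (b : Module.Basis (Fin n) Γ(X, U.1) Γ(E, U.1)) (S : Set.powersetCard (Fin n) p) :
    termBasis C p U b S = (C.loc p U).symm (ιMulti_family Γ(X, U.1) p b S) := by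
  simp [termBasis, exteriorPower.basis_apply]

/-- Sections of the terms are free. -/
theorem free_term (C : KoszSh.Cx E s) (p : ℕ) (U : X.affineOpens) {n : ℕ}
    (b : Module.Basis (Fin n) Γ(X, U.1) Γ(E, U.1)) : Module.Free Γ(X, U.1) Γ(C.K.X p, U.1) :=
  Module.Free.of_basis (termBasis C p U b)

/-- The terms are quasi-coherent. -/
theorem isQuasicoherent_term [E.IsQuasicoherent] (C : KoszSh.Cx E s)
    (hE : ∀ x : X, ∃ U : X.affineOpens, x ∈ U.1 ∧ ∃ n, Nonempty (Module.Basis (Fin n) Γ(X, U.1) Γ(E, U.1)))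
    (p : ℕ) : (C.K.X p).IsQuasicoherent := by
  refine QCoh.isQuasicoherent_of_forall_exists_isLocalizingAt _ fun x => ?_
  obtain ⟨U, hxU, n, ⟨b⟩⟩ := hE x
  refine ⟨U.1, U.2, hxU, fun g => ?_⟩
  haveI : Fact (IsAffineOpen U.1) := ⟨U.2⟩
  letI : Algebra Γ(X, U.1) Γ(X, X.basicOpen g) :=
    (X.presheaf.map (homOfLE (X.basicOpen_le g)).op).hom.toAlgebra
  haveI : IsLocalization.Away g Γ(X, X.basicOpen g) := U.2.isLocalization_basicOpen g
  haveI : IsScalarTower Γ(X, U.1) Γ(X, X.basicOpen g) Γ(E, X.basicOpen g) :=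
    IsScalarTower.of_algebraMap_smul fun _ _ => rfl
  let W : X.affineOpens := ⟨X.basicOpen g, U.2.basicOpen g⟩
  let b' : Module.Basis (Fin n) Γ(X, W.1) Γ(E, W.1) :=
    b.ofIsLocalizedModule Γ(X, X.basicOpen g) (Submonoid.powers g) (resLin E g)
  refine isLocalizingAt_of_basis U.2 g (termBasis C p U b) (termBasis C p W b') fun S => ?_
  rw [termBasis_apply, termBasis_apply, ιMulti_family, ιMulti_family]
  refine (C.loc_res p U W (X.basicOpen_le g) _).trans ?_
  refine congrArg (fun z => (C.loc p W).symm (ιMulti _ p z)) (funext fun j => ?_)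
  show _ = b' _
  exact (Module.Basis.ofIsLocalizedModule_apply Γ(X, X.basicOpen g) (Submonoid.powers g) (resLin E g) b _).symm

end Groth.Agent.KoszSh77
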