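import Groth.Agent.KoszSh77.Sigma
import Groth.Agent.KoszSh77.Terms
import Groth.Agent.KoszSh77.Descent

/-!
# Scaling Koszul complexes of divisors by a divisor
-/

set_option autoImplicit false
set_option backward.isDefEq.respectTransparency false
set_option backward.isDefEq.respectTransparency.types false
set_option linter.style.haveILetI false

universe u

open CategoryTheory CategoryTheory.Limits AlgebraicGeometry TopologicalSpace Opposite exteriorPower
open Groth.Agent.KoszTwLib Groth.Agent.LFFrame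

noncomputable section

namespace Groth.Agent.KoszSh77

variable {X : Scheme.{u}} {n : ℕ} (IY : Fin n → X.IdealSheafData) (ID : X.IdealSheafData)

/-- The sum of the ideal modules. -/
abbrev sumIdeal : X.Modules := ∐ fun i => ClSub.idealMod (IY i)

/-- Its map to `O`. -/
abbrev sumι : sumIdeal IY ⟶ Coh.structureModule X := Sigma.desc fun i => ClSub.idealModι (IY i)

/-- Affine opens on which all the divisors have equations. -/
def good : Set X.Opens :=
  {U | ∃ hU : IsAffineOpen U, (∃ g ∈ nonZeroDivisors Γ(X, U), ID.ideal ⟨U, hU⟩ = Ideal.span {g}) ∧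
    ∀ i, ∃ f ∈ nonZeroDivisors Γ(X, U), (IY i).ideal ⟨U, hU⟩ = Ideal.span {f}}

theorem exists_eq_restrict {I : X.IdealSheafData} {U V : X.affineOpens} (h : V.1 ≤ U.1)
    (hU : ∃ f ∈ nonZeroDivisors Γ(X, U.1), I.ideal U = Ideal.span {f}) :
    ∃ f ∈ nonZeroDivisors Γ(X, V.1), I.ideal V = Ideal.span {f} := by
  obtain ⟨f, hf, he⟩ := hU
  exact ⟨_, IdealSh.EffCartier.map_res_mem_nonZeroDivisors h hf, IdealSh.EffCartier.restrict_eq h he⟩

theorem isBasis_good (hY : ∀ i, BlowUp.IsEffCartierIdeal (IY i)) (hD : BlowUp.IsEffCartierIdeal ID) :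
    Opens.IsBasis (good IY ID) := by
  rw [Opens.isBasis_iff_nbhd]
  intro W x hx
  have key : ∀ s : Finset (Fin n), ∃ U : X.affineOpens, x ∈ U.1 ∧ U.1 ≤ W ∧
      (∃ g ∈ nonZeroDivisors Γ(X, U.1), ID.ideal U = Ideal.span {g}) ∧
      ∀ i ∈ s, ∃ f ∈ nonZeroDivisors Γ(X, U.1), (IY i).ideal U = Ideal.span {f} := by
    intro s
    induction s using Finset.induction with
    | empty =>
      obtain ⟨U, hxU, hUW, g, hg, he⟩ := IdealSh.EffCartier.exists_equation hD x W hx
      exact ⟨U, hxU, hUW, ⟨g, hg, he⟩, by simp⟩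
    | insert j s _ ih =>
      obtain ⟨U, hxU, hUW, hgU, hfU⟩ := ih
      obtain ⟨V, hxV, hVU, f, hf, he⟩ := IdealSh.EffCartier.exists_equation (hY j) x U.1 hxU
      refine ⟨V, hxV, hVU.trans hUW, exists_eq_restrict hVU hgU, fun i hi => ?_⟩
      rcases Finset.mem_insert.mp hi with rfl | hi
      · exact ⟨f, hf, he⟩
      · exact exists_eq_restrict hVU (hfU i hi)
  obtain ⟨U, hxU, hUW, hgU, hfU⟩ := key Finset.univ
  exact ⟨U.1, ⟨U.2, hgU, fun i => hfU i (Finset.mem_univ i)⟩, hxU, hUW⟩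

/-- A basis of sections over an open with equations. -/
theorem exists_basis (U : X.affineOpens)
    (h : ∀ i, ∃ f ∈ nonZeroDivisors Γ(X, U.1), (IY i).ideal U = Ideal.span {f}) :
    Nonempty (Module.Basis (Fin n) Γ(X, U.1) Γ(sumIdeal IY, U.1)) := by
  choose f hf he using h
  choose e he' _ using fun i => IdealSh.IdealMod.exists_isFrame_of_equation (IY i) (hf i) (he i)
  have hb : ∀ i, Function.Bijective (LinearMap.toSpanSingleton Γ(X, U.1) _ (e i 0)) := fun i => by
    have h1 : ![e i 0] = e i := by funext k; fin_cases k; rfl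
    have h2 := smul_frame_bijective (l := e i 0) (by rw [h1]; exact he' i) (le_refl U.1)
    simp only [KoszTwLib.res, res_rfl] at h2
    exact h2
  exact ⟨Module.Basis.ofEquivFun ((sectPi _ U.1).trans
    (LinearEquiv.piCongrRight fun i => (LinearEquiv.ofBijective _ (hb i)).symm))⟩

theorem isQuasicoherent_sumIdeal : (sumIdeal IY).IsQuasicoherent :=
  isQuasicoherent_sigma _ fun _ => AmpleLib.isQCoh_idealMod _

theorem isQuasicoherent_cxTerm (hY : ∀ i, BlowUp.IsEffCartierIdeal (IY i))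
    (C : KoszSh.Cx (sumIdeal IY) (sumι IY)) (p : ℕ) : (C.K.X p).IsQuasicoherent := by
  haveI := isQuasicoherent_sumIdeal IY
  refine isQuasicoherent_term C (fun x => ?_) p
  obtain ⟨U, ⟨hU, -, hf⟩, hxU, -⟩ :=
    Opens.isBasis_iff_nbhd.mp (isBasis_good IY ⊤ hY IdealSh.EffCartier.top) (Opens.mem_top x)
  exact ⟨⟨U, hU⟩, hxU, n, exists_basis IY ⟨U, hU⟩ hf⟩

variable {U : X.affineOpens} {g : Γ(X, U.1)} (hg : g ∈ nonZeroDivisors Γ(X, U.1)) (hJ : ID.ideal U = Ideal.span {g})

/-- Multiplication by the equation of `D`. -/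
def mulG : Γ(sumIdeal IY, U.1) ≃ₗ[Γ(X, U.1)] Γ(sumIdeal (fun i => IY i * ID), U.1) :=
  ((sectPi _ U.1).trans
    (LinearEquiv.piCongrRight fun i => (exists_mulIdeal (IY i) ID U hg hJ).choose)).trans (sectPi _ U.1).symm

theorem sect_mulG (e : Γ(sumIdeal IY, U.1)) (i : Fin n) :
    OmegaSh.idealSect (IY i * ID) U.1 (sectPi _ U.1 (mulG IY ID hg hJ e) i) =
      g * OmegaSh.idealSect (IY i) U.1 (sectPi _ U.1 e i) := by
  simp only [mulG, LinearEquiv.trans_apply, LinearEquiv.apply_symm_apply, LinearEquiv.piCongrRight_apply]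
  exact (exists_mulIdeal (IY i) ID U hg hJ).choose_spec _

theorem mulG_eq (e : Γ(sumIdeal IY, U.1)) (e' : Γ(sumIdeal (fun i => IY i * ID), U.1))
    (h : ∀ i, OmegaSh.idealSect (IY i * ID) U.1 (sectPi _ U.1 e' i) =
      g * OmegaSh.idealSect (IY i) U.1 (sectPi _ U.1 e i)) : mulG IY ID hg hJ e = e' :=
  (sectPi _ U.1).injective (funext fun i => Omega.Stalks.idealSect_injective _ _
    ((sect_mulG IY ID hg hJ e i).trans (h i).symm))

theorem secForm_mulG :
    (KoszSh.secForm (sumι fun i => IY i * ID) U.1).comp (mulG IY ID hg hJ).toLinearMap =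
      g • KoszSh.secForm (sumι IY) U.1 := by
  refine LinearMap.ext fun e => ?_
  rw [LinearMap.comp_apply, LinearMap.smul_apply, secForm_desc, secForm_desc, Finset.smul_sum]
  exact Finset.sum_congr rfl fun i _ => sect_mulG IY ID hg hJ e i

theorem mulG_mul {g' u : Γ(X, U.1)} (hg' : g' ∈ nonZeroDivisors Γ(X, U.1)) (hJ' : ID.ideal U = Ideal.span {g'})
    (hu : g' = u * g) : (mulG IY ID hg' hJ').toLinearMap = u • (mulG IY ID hg hJ).toLinearMap := by
  refine LinearMap.ext fun e => mulG_eq IY ID hg' hJ' e _ fun i => ?_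
  rw [LinearMap.smul_apply, map_smul, Pi.smul_apply, Omega.Stalks.idealSect_smul]
  show u * OmegaSh.idealSect (IY i * ID) U.1 (sectPi _ U.1 (mulG IY ID hg hJ e) i) = _
  rw [sect_mulG, hu, mul_assoc]

variable (C : KoszSh.Cx (sumIdeal IY) (sumι IY))
  (C' : KoszSh.Cx (sumIdeal fun i => IY i * ID) (sumι fun i => IY i * ID))

/-- `Λ^p` of the multiplication by the equation of `D`. -/
def theta (p : ℕ) : Γ(C.K.X p, U.1) ≃ₗ[Γ(X, U.1)] Γ(C'.K.X p, U.1) :=
  ((C.loc p U).trans (LinearEquiv.ofBijective _ (map_bijective (mulG IY ID hg hJ) p))).trans (C'.loc p U).symm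

theorem theta_ιMulti (p : ℕ) (e : Fin p → Γ(sumIdeal IY, U.1)) :
    theta IY ID hg hJ C C' p ((C.loc p U).symm (ιMulti _ p e)) =
      (C'.loc p U).symm (ιMulti _ p fun j => mulG IY ID hg hJ (e j)) := by
  simp [theta, Function.comp_def]

theorem theta_mul {g' u : Γ(X, U.1)} (hg' : g' ∈ nonZeroDivisors Γ(X, U.1)) (hJ' : ID.ideal U = Ideal.span {g'})
    (hu : g' = u * g) (p : ℕ) (z : Γ(C.K.X p, U.1)) :
    theta IY ID hg' hJ' C C' p z = theta IY ID hg hJ C C' p (u ^ p • z) := by
  induction z using loc_induction C p U with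
  | h0 => simp
  | hgen e =>
    rw [map_smul, theta_ιMulti, theta_ιMulti, ← map_smul]
    congr 1
    have he : (fun j => mulG IY ID hg' hJ' (e j)) = fun j => u • mulG IY ID hg hJ (e j) :=
      funext fun j => LinearMap.congr_fun (mulG_mul IY ID hg hJ hg' hJ' hu) (e j)
    rw [he, AlternatingMap.map_smul_univ]
    simp
  | hadd a b ha hb => rw [smul_add, map_add, map_add, ha, hb]
  | hsmul r a ha => rw [map_smul, ha, smul_comm (u ^ p) r a, map_smul (theta IY ID hg hJ C C' p) r]

theorem res_theta {V : X.affineOpens} (h : V.1 ≤ U.1) (hgV : X.presheaf.map (homOfLE h).op g ∈ nonZeroDivisors Γ(X, V.1))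
    (hJV : ID.ideal V = Ideal.span {X.presheaf.map (homOfLE h).op g}) (p : ℕ) (z : Γ(C.K.X p, U.1)) :
    QCoh.res (C'.K.X p) h (theta IY ID hg hJ C C' p z) =
      theta IY ID hgV hJV C C' p (QCoh.res (C.K.X p) h z) := by
  induction z using loc_induction C p U with
  | h0 => simp
  | hgen e =>
    rw [theta_ιMulti]
    refine (C'.loc_res p U V h _).trans ?_
    refine Eq.trans ?_ (congrArg (theta IY ID hgV hJV C C' p) (C.loc_res p U V h e)).symm
    rw [theta_ιMulti]
    refine congrArg (fun z => (C'.loc p V).symm (ιMulti _ p z)) (funext fun j => (mulG_eq IY ID hgV hJV _ _ fun i => ?_).symm)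
    show OmegaSh.idealSect (IY i * ID) V.1 (sectPi _ V.1 (QCoh.res _ h (mulG IY ID hg hJ (e j))) i) =
      _ * OmegaSh.idealSect (IY i) V.1 (sectPi _ V.1 (QCoh.res _ h (e j)) i)
    rw [← res_sectPi, ← res_sectPi]
    erw [Omega.Stalks.idealSect_map, Omega.Stalks.idealSect_map]
    rw [sect_mulG, map_mul]
  | hadd a b ha hb => simp only [map_add, ha, hb]
  | hsmul r a ha =>
    rw [map_smul, QCoh.res_smul, QCoh.res_smul, map_smul, ha]

/-- `θ` turns the differential into `g` times the differential. -/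
theorem d_theta (i j : ℕ) (x : Γ(C.K.X i, U.1)) :
    (C'.K.d i j).app U.1 (theta IY ID hg hJ C C' i x) = g • theta IY ID hg hJ C C' j ((C.K.d i j).app U.1 x) := by
  by_cases hij : (ComplexShape.down ℕ).Rel i j
  · obtain rfl : j + 1 = i := hij
    induction x using loc_induction C (j + 1) U with
    | h0 => simp
    | hgen e =>
      rw [theta_ιMulti, C'.rule, C.rule]
      show _ = g • (C'.loc j U).symm (exteriorPower.map j (mulG IY ID hg hJ).toLinearMap (C.loc j U ((C.loc j U).symm _)))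
      rw [LinearEquiv.apply_symm_apply, ← map_smul (C'.loc j U).symm, ← map_smul (exteriorPower.map j _), ← dGen_smul,
        ← secForm_mulG IY ID hg hJ, map_dGen]
      rfl
    | hadd a b ha hb => simp only [map_add, ha, hb, smul_add]
    | hsmul r a ha =>
      rw [map_smul, Scheme.Modules.Hom.app_smul, ha, Scheme.Modules.Hom.app_smul, map_smul, smul_comm]
  · rw [C.K.shape i j hij, C'.K.shape i j hij]
    show (0 : Γ(C'.K.X j, U.1)) = g • theta IY ID hg hJ C C' j (0 : Γ(C.K.X j, U.1))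
    rw [map_zero, smul_zero]

end Groth.Agent.KoszSh77
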