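import Groth.Agent.KoszSh77.Contract
import Groth.Agent.Omega.Stalks
import Groth.Agent.Props.QStalk
import Mathlib.RingTheory.Regular.Flat
import Mathlib.RingTheory.Localization.Module
import Mathlib.Algebra.Homology.HomologicalComplex
import Mathlib.Algebra.Homology.ShortComplex.HomologicalComplex

/-!
# Koszul complexes of regular cosections have no higher homology
-/

set_option autoImplicit false
set_option backward.isDefEq.respectTransparency false
set_option backward.isDefEq.respectTransparency.types false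
set_option linter.style.haveILetI false

universe u

open CategoryTheory CategoryTheory.Limits AlgebraicGeometry TopologicalSpace Opposite
open Groth.Agent.PullStalk.Sky Groth.Agent.PullStalk.Exact

noncomputable section

namespace Groth.Agent.KoszSh77

open Groth.Agent.Props.QStalk

variable {X : Scheme.{u}} {E : X.Modules}

theorem secForm_res (s : E ⟶ Coh.structureModule X) {U V : X.Opens} (h : V ≤ U) (e : Γ(E, U)) :
    KoszSh.secForm s V (E.presheaf.map (homOfLE h).op e) =
      X.presheaf.map (homOfLE h).op (KoszSh.secForm s U e) :=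
  NatTrans.naturality_apply s.mapPresheaf (homOfLE h).op e

/-- Bases and regular sequences pass to principal opens. -/
theorem exists_basis_basicOpen [E.IsQuasicoherent] (s : E ⟶ Coh.structureModule X) {n : ℕ}
    {U : X.Opens} (hU : IsAffineOpen U) (b : Module.Basis (Fin n) Γ(X, U) Γ(E, U))
    (hb : RingTheory.Sequence.IsWeaklyRegular Γ(X, U) (List.ofFn fun k => KoszSh.secForm s U (b k)))
    (g : Γ(X, U)) :
    ∃ b' : Module.Basis (Fin n) Γ(X, X.basicOpen g) Γ(E, X.basicOpen g),
      RingTheory.Sequence.IsWeaklyRegular Γ(X, X.basicOpen g)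
        (List.ofFn fun k => KoszSh.secForm s (X.basicOpen g) (b' k)) := by
  haveI : Fact (IsAffineOpen U) := ⟨hU⟩
  letI : Algebra Γ(X, U) Γ(X, X.basicOpen g) :=
    (X.presheaf.map (homOfLE (X.basicOpen_le g)).op).hom.toAlgebra
  haveI : IsLocalization.Away g Γ(X, X.basicOpen g) := hU.isLocalization_basicOpen g
  haveI : IsScalarTower Γ(X, U) Γ(X, X.basicOpen g) Γ(E, X.basicOpen g) :=
    IsScalarTower.of_algebraMap_smul fun _ _ => rfl
  haveI : Module.Flat Γ(X, U) Γ(X, X.basicOpen g) :=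
    IsLocalization.flat Γ(X, X.basicOpen g) (Submonoid.powers g)
  refine ⟨b.ofIsLocalizedModule Γ(X, X.basicOpen g) (Submonoid.powers g) (resLin E g), ?_⟩
  have h := hb.of_flat (S := Γ(X, X.basicOpen g))
  rw [List.map_ofFn] at h
  have e : (fun k => KoszSh.secForm s (X.basicOpen g)
      ((b.ofIsLocalizedModule Γ(X, X.basicOpen g) (Submonoid.powers g) (resLin E g)) k)) =
      (algebraMap Γ(X, U) Γ(X, X.basicOpen g)) ∘ fun k => KoszSh.secForm s U (b k) := by
    funext k
    rw [Module.Basis.ofIsLocalizedModule_apply]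
    exact secForm_res s (X.basicOpen_le g) (b k)
  rw [e]
  exact h

/-- Higher homology of a Koszul complex of a regular cosection vanishes. -/
theorem isZero_homology [E.IsQuasicoherent] {n : ℕ} (s : E ⟶ Coh.structureModule X)
    (hs : ∀ x : X, ∃ U : X.affineOpens, x ∈ U.1 ∧
      ∃ b : Module.Basis (Fin n) Γ(X, U.1) Γ(E, U.1),
        RingTheory.Sequence.IsWeaklyRegular Γ(X, U.1) (List.ofFn fun k => KoszSh.secForm s U.1 (b k)))
    (C : KoszSh.Cx E s) (q : ℕ) (hq : 1 ≤ q) : Limits.IsZero (C.K.homology q) := by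
  obtain ⟨p, rfl⟩ : ∃ p, q = p + 1 := ⟨q - 1, by omega⟩
  rw [← HomologicalComplex.exactAt_iff_isZero_homology,
    HomologicalComplex.exactAt_iff' C.K (p + 2) (p + 1) p (by simp) (by simp)]
  refine Omega.Stalks.exact_of_stalk _ fun x t ht => ?_
  obtain ⟨V, hxV, m, rfl⟩ := exists_germM_eq _ x t
  replace ht : stalkLin (C.K.d (p + 1) p) x (germM (C.K.X (p + 1)) V x hxV m) = 0 := ht
  rw [stalkLin_germ] at ht
  obtain ⟨V', hxV', i₁, i₂, h0⟩ := (C.K.X p).presheaf.germ_eq x hxV hxV ((C.K.d (p + 1) p).app V m) 0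
    (ht.trans (map_zero ((C.K.X p).presheaf.germ V x hxV).hom).symm)
  obtain ⟨U, hxU, b, hb⟩ := hs x
  obtain ⟨g, hgle, hxg⟩ := U.2.exists_basicOpen_le (V := V') ⟨x, hxV'⟩ hxU
  obtain ⟨b', hb'⟩ := exists_basis_basicOpen s U.2 b hb g
  let W : X.affineOpens := ⟨X.basicOpen g, U.2.basicOpen g⟩
  let m' : Γ(C.K.X (p + 1), W.1) := (C.K.X (p + 1)).presheaf.map (homOfLE (hgle.trans i₁.le)).op m
  let d : (q : ℕ) → ↥(⋀[Γ(X, W.1)]^(q + 1) Γ(E, W.1)) →ₗ[Γ(X, W.1)] ↥(⋀[Γ(X, W.1)]^q Γ(E, W.1)) :=
    fun q =>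
      { toFun := fun w => C.loc q W ((C.K.d (q + 1) q).app W.1 ((C.loc (q + 1) W).symm w))
        map_add' := fun a c => by rw [map_add, map_add, map_add]
        map_smul' := fun r a => by
          rw [map_smul, Scheme.Modules.Hom.app_smul, map_smul]
          rfl }
  have hd : ∀ q e, d q (exteriorPower.ιMulti _ (q + 1) e) = KoszSh.dGen (KoszSh.secForm s W.1) q e := by
    intro q e
    show C.loc q W ((C.K.d (q + 1) q).app W.1 ((C.loc (q + 1) W).symm _)) = _
    rw [C.rule, LinearEquiv.apply_symm_apply]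
  have hm' : (C.K.d (p + 1) p).app W.1 m' = 0 := by
    refine (NatTrans.naturality_apply (C.K.d (p + 1) p).mapPresheaf (homOfLE (hgle.trans i₁.le)).op m).trans ?_
    show (C.K.X p).presheaf.map (i₁.op ≫ (homOfLE hgle).op) ((C.K.d (p + 1) p).app V m) = 0
    rw [Functor.map_comp, ConcreteCategory.comp_apply, h0, map_zero, map_zero]
  obtain ⟨u, hu⟩ := exact_of_isWeaklyRegular b' (KoszSh.secForm s W.1) hb' p (d (p + 1)) (d p) (hd (p + 1)) (hd p)
    (C.loc (p + 1) W m') (by
      show C.loc p W ((C.K.d (p + 1) p).app W.1 ((C.loc (p + 1) W).symm (C.loc (p + 1) W m'))) = 0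
      rw [LinearEquiv.symm_apply_apply, hm', map_zero])
  refine ⟨germM (C.K.X (p + 2)) W.1 x hxg ((C.loc (p + 2) W).symm u), ?_⟩
  show stalkLin (C.K.d (p + 2) (p + 1)) x _ = germM (C.K.X (p + 1)) V x hxV m
  rw [stalkLin_germ, (C.loc (p + 1) W).injective hu]
  exact (C.K.X (p + 1)).presheaf.germ_res_apply (homOfLE (hgle.trans i₁.le)) x hxg m

end Groth.Agent.KoszSh77
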